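import Groth.Agent.Sga4h.H926.KumClass
import Groth.Agent.Etcore.Kappa228
import Groth.Agent.Sga5.ClosedPush

/-!
# Kummer classes and restriction to a closed subscheme

`κ : V' ⟶ V` a closed immersion, `g : V ⟶ X`.  The map `R^1 g_* μ_n → R^1 g_* κ_* μ_n` kills the Kummer class of a
unit `s` only if the restriction of `s` to `V'` is locally (on `X`) an `n`-th power.
-/

set_option autoImplicit false
universe u

open CategoryTheory CategoryTheory.Limits AlgebraicGeometry Opposite CategoryTheory.Abelian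

namespace K721.KumRes

open Groth.Agent Groth.Agent.Sga4B.RpushSec930 Groth.Agent.Sga4B.KummerH1 Groth.Agent.CurvesA
  Groth.Agent.EtpbcA.CdDiesEt Groth.Agent.Sga4h.H926.KumClass

attribute [local instance 3000] hasSheafify hasExt

variable {V X V' : Scheme.{u}} (g : V ⟶ X) (κ : V' ⟶ V) (n : ℕ)

/-- `G_m → κ_* G_m`. -/
noncomputable abbrev gm : EtCoh.Gm V ⟶ (EtCoh.push κ).obj (EtCoh.Gm V') := Dix.GmPush.gmToPush κ

/-- `μ_n → κ_* μ_n`. -/
noncomputable def mm : EtCoh.mu V n ⟶ (EtCoh.push κ).obj (EtCoh.mu V' n) :=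
  (EtCoh.pullPushAdj κ).homEquiv _ _ (Etcore.Kappa228.pullMu n κ)

theorem mm_ι : mm κ n ≫ (EtCoh.push κ).map (EtCoh.muι V' n) = EtCoh.muι V n ≫ gm κ := by
  unfold mm
  rw [← Adjunction.homEquiv_naturality_right, Etcore.Kappa228.pullMu_ι, Adjunction.homEquiv_naturality_left]
  congr 1
  unfold Etcore.Kappa228.pullGm
  exact Equiv.apply_symm_apply _ _

theorem push_w : (EtCoh.push κ).map (EtCoh.muι V' n) ≫ (n • 𝟙 ((EtCoh.push κ).obj (EtCoh.Gm V'))) = 0 := by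
  have h1 : (n • 𝟙 ((EtCoh.push κ).obj (EtCoh.Gm V'))) = (EtCoh.push κ).map (n • 𝟙 (EtCoh.Gm V')) := by
    rw [Functor.map_nsmul, CategoryTheory.Functor.map_id]
  rw [h1, ← Functor.map_comp, kummer_zero, Functor.map_zero]

/-- `0 → κ_* μ_n → κ_* G_m → κ_* G_m → 0`. -/
theorem push_shortExact [IsClosedImmersion κ] (h' : Epi (EtCoh.powMap V' n)) :
    (ShortComplex.mk ((EtCoh.push κ).map (EtCoh.muι V' n)) (n • 𝟙 ((EtCoh.push κ).obj (EtCoh.Gm V')))
      (push_w κ n)).ShortExact := by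
  have h1 := Groth.Agent.Sga5.ClosedPush.preservesFiniteColimits_push κ
  have h2 := (kummer_shortExact V' n h').map_of_exact (EtCoh.push κ)
  refine ShortComplex.shortExact_of_iso
    (ShortComplex.isoMk (Iso.refl _) (Iso.refl _) (Iso.refl _) (by simp [ShortComplex.map]) ?_) h2
  simp [ShortComplex.map, Functor.map_nsmul]

/-- The restriction map on Kummer sequences. -/
noncomputable def restr [IsClosedImmersion κ] :
    ShortComplex.mk (EtCoh.muι V n) (n • 𝟙 (EtCoh.Gm V)) (kummer_zero V n) ⟶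
    ShortComplex.mk ((EtCoh.push κ).map (EtCoh.muι V' n)) (n • 𝟙 ((EtCoh.push κ).obj (EtCoh.Gm V')))
      (push_w κ n) where
  τ₁ := mm κ n
  τ₂ := gm κ
  τ₃ := gm κ
  comm₁₂ := mm_ι κ n
  comm₂₃ := by
    change gm κ ≫ (n • 𝟙 ((EtCoh.push κ).obj (EtCoh.Gm V'))) = (n • 𝟙 (EtCoh.Gm V)) ≫ gm κ
    rw [Preadditive.comp_nsmul, Preadditive.nsmul_comp, Category.comp_id, Category.id_comp]

variable (h : Epi (EtCoh.powMap V n)) (h' : Epi (EtCoh.powMap V' n))

theorem kcl_comp_mm [IsClosedImmersion κ] (W : V.Etale) (s : EtCoh.sect (EtCoh.Gm V) W) :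
    (kcl n h W s).comp (Ext.mk₀ (mm κ n)) (add_zero 1) =
      conn ((Zf V).obj W) _ n _ (push_shortExact κ n h') 0
        (Ext.mk₀ (SiteZU.lift.{u + 1} (F := (EtCoh.push κ).obj (EtCoh.Gm V')) ((gm κ).hom.app (op W) s))) := by
  have h1 := ShortComplex.ShortExact.extClass_naturality (kummer_shortExact V n h)
    (push_shortExact κ n h') (restr κ n)
  have h2 : SiteZU.lift.{u + 1} (F := (EtCoh.push κ).obj (EtCoh.Gm V')) ((gm κ).hom.app (op W) s) =
      SiteZU.lift.{u + 1} s ≫ gm κ := by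
    apply SiteZU.ev_injective.{u + 1}
    rw [SiteZU.ev_lift, SiteZU.ev_comp, SiteZU.ev_lift]
  rw [kcl_apply, h2, ← Ext.mk₀_comp_mk₀]
  change _ = ((Ext.mk₀ (SiteZU.lift.{u + 1} s)).comp (Ext.mk₀ (gm κ)) (add_zero 0)).comp
    (push_shortExact κ n h').extClass (zero_add 1)
  rw [Ext.comp_assoc _ _ _ (zero_add 1) (add_zero 1) (by omega),
    Ext.comp_assoc _ _ _ (add_zero 0) (zero_add 1) (by omega)]
  exact congrArg (fun z => (Ext.mk₀ (SiteZU.lift.{u + 1} s)).comp z (zero_add 1)) h1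

include h' in
/-- If the Kummer class of `s` dies in `R^1 g_* κ_* μ_n` then `s` restricted to `V'` is locally an `n`-th power. -/
theorem exists_root [IsClosedImmersion κ] (W : X.Etale)
    (s : EtCoh.sect (EtCoh.Gm V) ((EtCoh.bc g).obj W))
    (hs : ((EtCoh.Rpush g 1).map (mm κ n)).hom.app (op W) (kap g n h W s) = 0) (w : W.left) :
    ∃ (W' : X.Etale) (p : W' ⟶ W) (w' : W'.left), p.left w' = w ∧
      ∃ r : EtCoh.sect (EtCoh.Gm V') ((EtCoh.bc κ).obj ((EtCoh.bc g).obj W')),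
        n • r = (gm κ).hom.app (op ((EtCoh.bc g).obj W')) ((EtCoh.Gm V).obj.map ((EtCoh.bc g).map p).op s) := by
  have h1 : sec g 1 ((EtCoh.push κ).obj (EtCoh.mu V' n)) W
      ((kcl n h ((EtCoh.bc g).obj W) s).comp (Ext.mk₀ (mm κ n)) (add_zero 1)) = 0 := by
    rw [← map_sec]
    exact hs
  obtain ⟨S, hS, H⟩ := exists_sieve_of_sec_eq_zero g 1 _ _ h1
  rw [Groth.Agent.Etbase.EtSite.mem_iff] at hS
  obtain ⟨W', p, w', hp, hw⟩ := hS w
  refine ⟨W', p, w', hw, ?_⟩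
  have h2 := H W' p hp
  rw [← Ext.comp_assoc _ _ _ (zero_add 1) (add_zero 1) (by omega), kcl_res, kcl_comp_mm κ n h h'] at h2
  obtain ⟨y, hy⟩ := exists_of_conn_eq_zero ((Zf V).obj ((EtCoh.bc g).obj W')) _ n _
    (push_shortExact κ n h') 0 _ h2
  refine ⟨SiteZU.evEquiv.{u + 1} _ ((EtCoh.push κ).obj (EtCoh.Gm V')) (Ext.addEquiv₀ y), ?_⟩
  change n • (SiteZU.evEquiv.{u + 1} ((EtCoh.bc g).obj W') ((EtCoh.push κ).obj (EtCoh.Gm V')) (Ext.addEquiv₀ y)) = _
  rw [← map_nsmul, ← map_nsmul, hy]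
  have h3 : Ext.addEquiv₀ (Ext.mk₀ (SiteZU.lift.{u + 1} (F := (EtCoh.push κ).obj (EtCoh.Gm V'))
      ((gm κ).hom.app (op ((EtCoh.bc g).obj W')) ((EtCoh.Gm V).obj.map ((EtCoh.bc g).map p).op s)))) =
      SiteZU.lift.{u + 1} (F := (EtCoh.push κ).obj (EtCoh.Gm V'))
      ((gm κ).hom.app (op ((EtCoh.bc g).obj W')) ((EtCoh.Gm V).obj.map ((EtCoh.bc g).map p).op s)) :=
    Ext.addEquiv₀.apply_symm_apply _
  rw [h3, SiteZU.evEquiv_apply, SiteZU.ev_lift]

end K721.KumRes
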