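import Groth.Agent.Etbc.H212.KZar
import Groth.Agent.CohqB.HSeqMod
import Groth.Agent.CohqA.ModSec
import Groth.Agent.CohqA.H1Lift
import Groth.Agent.CurvesB.HZero
import Groth.Agent.CurvesC.CurveNum
import Groth.Agent.Sga67.TensorOps

/-!
# Zariski cohomology of the ideal of a closed immersion

* `subsingleton_of_iso`: transport of vanishing of `H^q`;
* `nonempty_I`: the ideal module `KZar.I` of a closed subscheme is `𝓘 ≅ 𝓘^{⊗ 1}`;
* `subsingleton_HH_I`: if `H^q(X, O) = 0` for `0 < q ≤ n`, `H^q(Z, O) = 0` for `0 < q < n` and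
  `Γ(X, O) → Γ(Z, O)` is bijective then `H^q(X, I) = 0` for `q ≤ n`.
-/

set_option autoImplicit false
universe u
open CategoryTheory CategoryTheory.Limits AlgebraicGeometry Opposite TopologicalSpace

namespace K721.IdealVan

open Groth.Agent

theorem subsingleton_of_iso {X : Scheme.{u}} {M N : X.Modules} (e : M ≅ N) (q : ℕ)
    (h : Subsingleton (Coh.HH X M q)) : Subsingleton (Coh.HH X N q) := by
  refine subsingleton_of_forall_eq 0 fun x => ?_
  have h1 : CohqB.HSeqMod.hmap e.hom q (CohqB.HSeqMod.hmap e.inv q x) = x := by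
    rw [← CohqB.HSeqMod.hmap_comp_apply, e.inv_hom_id, CohqB.HSeqMod.hmap_id_apply]
  rw [← h1, h.elim (CohqB.HSeqMod.hmap e.inv q x) 0, map_zero]

theorem unitMap_eq {Y X : Scheme.{u}} (i : Y ⟶ X) :
    PerfB.UnitMono.unitMap i = ClSub.unitToPush i := by
  ext U s
  rfl

/-- The ideal module of a closed subscheme, in the two forms. -/
theorem nonempty_I (X : Scheme.{u}) (𝓘 : X.IdealSheafData) :
    Nonempty (CohB1.tensorPow (ClSub.idealMod 𝓘) 1 ≅ Etbc.H212.KZar.I 𝓘.subschemeι) := by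
  have e : Etbc.H212.KZar.I 𝓘.subschemeι = ClSub.idealMod 𝓘 :=
    congrArg (fun φ => kernel φ) (unitMap_eq 𝓘.subschemeι)
  exact ⟨Sga67.TensorOps.tensorUnit (ClSub.idealMod 𝓘) ≪≫ (eqToIso e).symm⟩

section General

variable {X : Scheme.{u}} {T : ShortComplex X.Modules} (hT : T.ShortExact)

include hT

/-- `H^1(T.X₁) = 0` if global sections lift and `H^1(T.X₂) = 0`. -/
theorem hh_one (hΓ : Function.Surjective (T.g.app ⊤)) (h2 : Subsingleton (Coh.HH X T.X₂ 1)) :
    Subsingleton (Coh.HH X T.X₁ 1) := by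
  refine subsingleton_of_forall_eq 0 fun x => ?_
  obtain ⟨y, rfl⟩ := CohqB.HSeqMod.exact₁ hT 0 x (h2.elim _ _)
  obtain ⟨z, hz⟩ := hΓ (CurvesB.HZero.equivAdd T.X₃ y)
  have h3 : CohqB.HSeqMod.hmap T.g 0 ((CurvesB.HZero.equivAdd T.X₂).symm z) = y := by
    apply (CurvesB.HZero.equivAdd T.X₃).injective
    refine (CurvesB.HZero.equivAdd_map T.g _).trans ?_
    rw [AddEquiv.apply_symm_apply, hz]
  rw [← h3]
  exact CohqB.HSeqMod.δ_hmap hT 0 _

theorem hh_zero_of_injective (hΓ : Function.Injective (T.g.app ⊤)) : Subsingleton (Coh.HH X T.X₁ 0) := by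
  have hmono : Mono T.f := hT.mono_f
  have h1 := (CohqA.ModSec.mono_iff_injective T.f).1 hmono ⊤
  have h2 : ∀ s : Γ(T.X₁, ⊤), s = 0 := by
    intro s
    apply h1
    rw [map_zero]
    apply hΓ
    rw [map_zero]
    exact congrArg (fun φ : T.X₁ ⟶ T.X₃ => φ.app ⊤ s) T.zero
  have h3 : Subsingleton Γ(T.X₁, ⊤) := ⟨fun a b => (h2 a).trans (h2 b).symm⟩
  exact (CurvesB.HZero.equivAdd T.X₁).toEquiv.subsingleton

theorem hh_succ (q : ℕ) (h3 : Subsingleton (Coh.HH X T.X₃ q)) (h2 : Subsingleton (Coh.HH X T.X₂ (q + 1))) :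
    Subsingleton (Coh.HH X T.X₁ (q + 1)) := by
  refine subsingleton_of_forall_eq 0 fun x => ?_
  obtain ⟨y, rfl⟩ := CohqB.HSeqMod.exact₁ hT q x (h2.elim _ _)
  rw [h3.elim y 0, map_zero]

end General

section Ideal

variable {X Z : Scheme.{u}} (i : Z ⟶ X) [IsClosedImmersion i]

theorem epi_unitToPush : Epi (PerfB.UnitMono.unitMap i) := by
  rw [unitMap_eq]
  exact (CohqB.ToSheafExact.toAbF X).epi_of_epi_map
    (CohqA.H1Lift.epi_toAb_of_locSurj (ClSub.unitToPush i)
      (CohqA.H1Lift.locSurj_of_affine _ fun U => i.app_surjective U.1 U.2))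

/-- `0 → I → O_X → i_* O_Z → 0`. -/
noncomputable abbrev cx : ShortComplex X.Modules :=
  ShortComplex.mk (Etbc.H212.KZar.Iι i) (PerfB.UnitMono.unitMap i) (kernel.condition _)

theorem shortExact_cx : (cx i).ShortExact where
  exact := ShortComplex.exact_of_f_is_kernel _ (kernelIsKernel _)
  mono_f := inferInstanceAs (Mono (kernel.ι (PerfB.UnitMono.unitMap i)))
  epi_g := epi_unitToPush i

theorem subsingleton_HH_I (n : ℕ) (hX : ∀ q, 0 < q → q ≤ n → Subsingleton (Coh.HH X (Coh.structureModule X) q))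
    (hZ : ∀ q, 0 < q → q < n → Subsingleton (Coh.HH Z (Coh.structureModule Z) q))
    (hΓ : Function.Bijective i.appTop) (q : ℕ) (hq : q ≤ n) :
    Subsingleton (Coh.HH X (Etbc.H212.KZar.I i) q) := by
  have hT := shortExact_cx i
  have hg : Function.Bijective ((cx i).g.app ⊤) := hΓ
  rcases q with _ | q
  · exact hh_zero_of_injective hT hg.1
  · rcases q with _ | q
    · exact hh_one hT hg.2 (hX 1 one_pos hq)
    · refine hh_succ hT (q + 1) ?_ (hX (q + 2) (by omega) hq)
      have := hZ (q + 1) (by omega) (by omega)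
      exact (CurvesC.CurveNum.hhPush i (Coh.structureModule Z) (q + 1)).symm.toEquiv.subsingleton

end Ideal

end K721.IdealVan
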