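import Groth.Agent.Etbc.H212.ASClosed3
import Groth.Agent.Etbc.H212.KZar
import Groth.Agent.EtpbcA.CdEtLeray
import Groth.Agent.Sga2lef.H92.HpullLES
import Groth.Agent.Sga2lef.H338.HpullDev
import Groth.Agent.Sga5.H833.ZModSeq

/-!
# The Artin–Schreier form of the Lefschetz theorem

`i : Z ⟶ X` a closed immersion on a scheme with `p = 0`, with ideal `I`.  If `H^q(X, I) = 0` for `q < n`
then `H^q(X_et, ℤ/p^m) → H^q(Z_et, ℤ/p^m)` is bijective for `q + 1 < n` and injective for `q + 1 = n`.
-/

set_option autoImplicit false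
universe u
open CategoryTheory CategoryTheory.Limits AlgebraicGeometry Opposite

namespace K721.ASLef

open Groth.Agent Groth.Agent.Etbc.H212 Groth.Agent.Sga2lef.H338.HpullDev

variable {X Z : Scheme.{u}} (i : Z ⟶ X) [IsClosedImmersion i]

/-- The open complement. -/
def co : X.Opens := ⟨(Set.range i)ᶜ, i.isClosedEmbedding.isClosed_range.isOpen_compl⟩

theorem isCompl_co : IsCompl (Set.range i) (Set.range (co i).ι) := by
  rw [Scheme.Opens.range_ι]
  exact isCompl_compl

/-- Vanishing of `H^q(X, j_! j^* ℤ/p)`. -/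
theorem subsingleton_H_extZero (p : ℕ) [Fact p.Prime] (hX : (p : Γ(X, ⊤)) = 0) (n : ℕ)
    (hv : ∀ q < n, Subsingleton (Coh.HH X (KZar.I i) q)) (q : ℕ) (hq : q < n) :
    Subsingleton (EtCoh.H X ((EtShriek.extZero (co i).ι).obj
      ((EtShriek.restrAlong (co i).ι).obj (EtCoh.const X (ZMod p)))) q) := by
  obtain ⟨e⟩ := ASClosed.nonempty_kernelIso i (co i).ι (isCompl_co i) p hX
  refine EtpbcA.CdEtLeray.H_subsingleton_of_iso e q ?_
  have hses := ASClosed.shortExact i p hX
  have hK : ∀ q < n, Subsingleton (EtCoh.H X (ASClosed.K i) q) := fun q hq =>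
    KZar.subsingleton_H_K i q (hv q hq)
  rcases q with _ | m
  · have := hses.mono_f
    have h1 := Abelian.Ext.postcomp_mk₀_injective_of_mono
      ((constantSheaf X.smallEtaleTopology AddCommGrpCat.{u + 1}).obj
        (AddCommGrpCat.of (ULift.{u + 1} ℤ))) (ASClosed.toK i p hX)
    have := hK 0 hq
    exact h1.subsingleton
  · exact EtpbcA.CdLeray.ext_left hses _ m (hK m (by omega)) (hK (m + 1) hq)

variable [PreservesFiniteLimits (EtCoh.pull i)]

theorem concl_prime (p : ℕ) [Fact p.Prime] (hX : (p : Γ(X, ⊤)) = 0) (n : ℕ)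
    (hv : ∀ q < n, Subsingleton (Coh.HH X (KZar.I i) q)) :
    Concl i 0 n (EtCoh.const X (ZMod p)) :=
  ⟨fun q hq => Sga2lef.H92.HpullLES.Hpull_bijective i (co i).ι (isCompl_co i) _ q
      (subsingleton_H_extZero i p hX n hv q (by omega))
      (subsingleton_H_extZero i p hX n hv (q + 1) (by omega)),
    fun q hq => Sga2lef.H92.HpullLES.Hpull_injective i (co i).ι (isCompl_co i) _ q
      (subsingleton_H_extZero i p hX n hv q (by omega))⟩

omit [IsClosedImmersion i] in
open Groth.Agent.Etrest.HpullConst in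
/-- From `ℤ/p` to `ℤ/p^m`. -/
theorem concl_pow (c n p : ℕ) (hp : 0 < p) (h : Concl i c n (EtCoh.const X (ZMod p))) (m : ℕ) :
    Concl i c n (EtCoh.const X (ZMod (p ^ m))) := by
  have hl : PreservesFiniteLimits (constU X) := by
    unfold constU constantSheaf
    infer_instance
  have hr : PreservesFiniteColimits (constU X) := by
    have : PreservesColimitsOfSize.{0, 0} (constU X) :=
      ((constantSheafAdj X.smallEtaleTopology AddCommGrpCat.{u + 1}
        (EtCore.topIsTerminal X))).leftAdjoint_preservesColimits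
    exact PreservesColimitsOfSize.preservesFiniteColimits _
  induction m with
  | zero =>
    refine concl_of_isZero (F := (constU X).obj _) ((constU X).map_isZero ?_)
    have : Subsingleton (ZMod (p ^ 0)) := by
      rw [pow_zero]
      infer_instance
    exact AddCommGrpCat.isZero_of_subsingleton _
  | succ m ih =>
    have hS := (Sga5.H833.ZModSeq.cx_shortExact.{u} p (p ^ m) (p ^ (m + 1)) (pow_pos hp m).ne'
      (pow_succ' p m)).map_of_exact (constU X)
    exact concl_middle hS h ih

/-- **Artin–Schreier Lefschetz theorem**. -/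
theorem main (p : ℕ) [Fact p.Prime] (hX : (p : Γ(X, ⊤)) = 0) (n : ℕ)
    (hv : ∀ q < n, Subsingleton (Coh.HH X (KZar.I i) q)) (m : ℕ) :
    (∀ q : ℕ, q + 1 < n → Function.Bijective (EtCore.Hpull i (EtCoh.const X (ZMod (p ^ m))) q)) ∧
    (∀ q : ℕ, q + 1 = n → Function.Injective (EtCore.Hpull i (EtCoh.const X (ZMod (p ^ m))) q)) := by
  have h := concl_pow i 0 n p (Fact.out : p.Prime).pos (concl_prime i p hX n hv) m
  exact ⟨fun q hq => h.1 q (by omega), fun q hq => h.2 q (by omega)⟩

end K721.ASLef
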