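import Groth.Agent.Sga5.HcConst2
import Groth.Agent.Sga2lef.H92.Descend
import Groth.Agent.Sga2lef.H92.HpullLES
import Groth.Agent.Etcore.ShriekBaseChange

/-!
# `H^q(X, W_! ℤ/m) = 0` for `q < N`, `X` proper, `W` affine open smooth of dimension `N` over a field
-/

set_option autoImplicit false
universe u
open CategoryTheory CategoryTheory.Limits AlgebraicGeometry Opposite

namespace K721.AffVan

open Groth.Agent Groth.Agent.Sga2lef.H92

attribute [local instance] AlgebraicGeometry.smoothOfRelativeDimension_isStableUnderBaseChange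

/-- Vanishing of the compactly supported cohomology of a smooth affine open in degrees below the dimension, over
an arbitrary field. -/
theorem subsingleton_H (k : Type u) [Field k] {X : Scheme.{u}} (f : X ⟶ Spec (CommRingCat.of k)) [IsProper f]
    (V : X.Opens) (hV : IsAffineOpen V) (N : ℕ) [SmoothOfRelativeDimension N (V.ι ≫ f)]
    (m : ℕ) (hm : (m : k) ≠ 0) (q : ℕ) (hq : q < N) :
    Subsingleton (EtCoh.H X ((EtShriek.extZero V.ι).obj (EtCoh.const V (ZMod m))) q) := by
  refine Descend.H_subsingleton_of_algClosed f _ N ?_ q hq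
  intro L _ _ t W w g hsq q hq
  have hsq' : IsPullback (pullback.fst w V.ι) (pullback.snd w V.ι) w V.ι :=
    IsPullback.of_hasPullback w V.ι
  have hsq2 : IsPullback (pullback.snd w V.ι) (pullback.fst w V.ι ≫ g) (V.ι ≫ f) t :=
    hsq'.flip.paste_vert hsq
  have hg : IsProper g := MorphismProperty.of_isPullback hsq ‹IsProper f›
  let φ : k →+* L := (Spec.preimage t).hom
  have hmL : (m : L) ≠ 0 := by
    rw [← map_natCast φ m]
    exact (map_ne_zero φ).2 hm
  have hsm : SmoothOfRelativeDimension N (pullback.fst w V.ι ≫ g) :=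
    MorphismProperty.of_isPullback (P := @SmoothOfRelativeDimension N) hsq2 ‹_›
  have hVa : IsAffine (V : Scheme.{u}) := hV
  have hw : IsAffineHom w := by
    have h1 : IsAffineHom t := inferInstance
    exact MorphismProperty.of_isPullback hsq.flip h1
  have haff : IsAffine (pullback w V.ι) := by
    have h2 : IsAffineHom (pullback.snd w V.ι) := inferInstance
    exact isAffine_of_isAffineHom (pullback.snd w V.ι)
  have h1 := Sga5.HcConst2.subsingleton_H_extZero_zmod L g (pullback.fst w V.ι) N m hmL q hq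
  let e : (EtCoh.pull w).obj ((EtShriek.extZero V.ι).obj (EtCoh.const V (ZMod m))) ≅
      (EtShriek.extZero (pullback.fst w V.ι)).obj (EtCoh.const _ (ZMod m)) :=
    ((Groth.Agent.Etcore.ShriekBaseChange.extZeroBaseChange V.ι w (pullback.fst w V.ι)
      (pullback.snd w V.ι) hsq').app _).symm ≪≫
      (EtShriek.extZero (pullback.fst w V.ι)).mapIso (EtCore.pullConst (pullback.snd w V.ι) (ZMod m))
  exact Groth.Agent.EtpbcA.CdEtLeray.H_subsingleton_of_iso e.symm q h1

/-- **Lefschetz**: restriction to a closed subscheme with affine smooth complement. -/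
theorem lefschetz (k : Type u) [Field k] {X Y : Scheme.{u}} (f : X ⟶ Spec (CommRingCat.of k)) [IsProper f]
    (i : Y ⟶ X) [IsClosedImmersion i] (V : X.Opens) (hV : IsAffineOpen V)
    (hcov : (V : Set X) = (Set.range i)ᶜ) (N : ℕ) [SmoothOfRelativeDimension N (V.ι ≫ f)]
    (m : ℕ) (hm : (m : k) ≠ 0) [PreservesFiniteLimits (EtCoh.pull i)] :
    (∀ q : ℕ, q + 1 < N → Function.Bijective (EtCore.Hpull i (EtCoh.const X (ZMod m)) q)) ∧
    (∀ q : ℕ, q + 1 = N → Function.Injective (EtCore.Hpull i (EtCoh.const X (ZMod m)) q)) := by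
  have hd : IsCompl (Set.range i) (Set.range V.ι) := by
    rw [Scheme.Opens.range_ι, hcov]
    exact isCompl_compl
  have key : ∀ q : ℕ, q < N → Subsingleton (EtCoh.H X ((EtShriek.extZero V.ι).obj
      ((EtShriek.restrAlong V.ι).obj (EtCoh.const X (ZMod m)))) q) := by
    intro q hq
    have h1 := subsingleton_H k f V hV N m hm q hq
    let e : (EtShriek.extZero V.ι).obj (EtCoh.const V (ZMod m)) ≅ (EtShriek.extZero V.ι).obj
        ((EtShriek.restrAlong V.ι).obj (EtCoh.const X (ZMod m))) :=
      (EtShriek.extZero V.ι).mapIso ((EtCore.pullConst V.ι (ZMod m)).symm ≪≫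
        (Groth.Agent.Etcore.ShriekBasic.pullIsoRestr V.ι).app _)
    exact Groth.Agent.EtpbcA.CdEtLeray.H_subsingleton_of_iso e q h1
  exact ⟨fun q hq => HpullLES.Hpull_bijective i V.ι hd _ q (key q (by omega)) (key (q + 1) (by omega)),
    fun q hq => HpullLES.Hpull_injective i V.ι hd _ q (key q (by omega))⟩

end K721.AffVan
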