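import Groth.Agent.EtCoh.K721.SeqColim
import Mathlib.Algebra.Module.LocalizedModule.Basic

/-!
# Localization of cohomology at a multiplicative set of integers
-/

set_option autoImplicit false
universe u
open CategoryTheory CategoryTheory.Limits AlgebraicGeometry Opposite CategoryTheory.Abelian

namespace K721.LocCoh

open K721.SeqColim

variable {X : Scheme.{u}}

/-- A homomorphism with kernel and cokernel killed elementwise by `S`. -/
structure IsoMod (S : Submonoid ℤ) {A B : Type*} [AddCommGroup A] [AddCommGroup B] (f : A →+ B) :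
    Prop where
  ker : ∀ a, f a = 0 → ∃ s ∈ S, s • a = 0
  coker : ∀ b, ∃ s ∈ S, ∃ a, f a = s • b

theorem IsoMod.comp {S : Submonoid ℤ} {A B C : Type*} [AddCommGroup A] [AddCommGroup B]
    [AddCommGroup C] {f : A →+ B} {g : B →+ C} (hf : IsoMod S f) (hg : IsoMod S g) :
    IsoMod S (g.comp f) where
  ker a ha := by
    obtain ⟨s, hs, h1⟩ := hg.ker _ ha
    rw [← map_zsmul] at h1
    obtain ⟨t, ht, h2⟩ := hf.ker _ h1
    exact ⟨t * s, S.mul_mem ht hs, by rw [mul_smul, h2]⟩
  coker c := by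
    obtain ⟨s, hs, b, hb⟩ := hg.coker c
    obtain ⟨t, ht, a, ha⟩ := hf.coker b
    exact ⟨t * s, S.mul_mem ht hs, a, by
      rw [AddMonoidHom.comp_apply, ha, map_zsmul, hb, mul_smul]⟩

/-- Every point of an étale `X`-scheme lies in an affine open. -/
theorem exists_affine (U : X.Etale) (x : U.left) :
    ∃ (V : X.Etale) (g : V ⟶ U) (v : V.left), g.left v = x ∧ IsAffine V.left := by
  obtain ⟨W, hW, hxW, -⟩ := exists_isAffineOpen_mem_and_subset (X := U.left) (U := ⊤) (x := x)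
    trivial
  let V : X.Etale := Scheme.Etale.mk (W.ι ≫ U.hom)
  exact ⟨V, MorphismProperty.Over.homMk W.ι rfl, ⟨x, hxW⟩, rfl, hW⟩

theorem app_map {F G : EtCoh.Ab X} (φ : F ⟶ G) {U V : X.Etale} (g : V ⟶ U) (s : EtCoh.sect F U) :
    φ.hom.app (op V) (F.obj.map g.op s) = G.obj.map g.op (φ.hom.app (op U) s) :=
  congrArg (fun ψ => ψ s) (φ.hom.naturality g.op)

theorem kernel_ι_injective {F G : EtCoh.Ab X} (φ : F ⟶ G) (W : X.Etale) :
    Function.Injective ((kernel.ι φ).hom.app (op W)) := by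
  have h1 : Mono ((sheafToPresheaf X.smallEtaleTopology AddCommGrpCat.{u + 1}).map (kernel.ι φ)) :=
    inferInstance
  have h2 : Mono (((sheafToPresheaf X.smallEtaleTopology AddCommGrpCat.{u + 1}).map
    (kernel.ι φ)).app (op W)) := inferInstance
  exact (AddCommGrpCat.mono_iff_injective _).1 h2

section

variable (S : Submonoid ℤ) {F G : EtCoh.Ab X} (φ : F ⟶ G)
  (hφ : ∀ U : X.Etale, IsAffine U.left →
      IsLocalizedModule S (φ.hom.app (op U)).hom.toIntLinearMap)

include hφ in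
theorem locTors_kernel : LocTors S (kernel φ) := by
  intro U s x
  obtain ⟨V, g, v, hv, hV⟩ := exists_affine U x
  have := hφ V hV
  refine ⟨V, g, v, hv, ?_⟩
  let t : EtCoh.sect F V := (kernel.ι φ).hom.app (op V) ((kernel φ).obj.map g.op s)
  have ht : (φ.hom.app (op V)).hom.toIntLinearMap t = 0 := by
    have := congrArg (fun ψ => (ψ.hom.app (op V)) ((kernel φ).obj.map g.op s)) (kernel.condition φ)
    exact this
  obtain ⟨a, ha⟩ := (IsLocalizedModule.eq_zero_iff S _).1 ht
  refine ⟨a, a.2, kernel_ι_injective φ V ?_⟩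
  rw [map_zsmul, map_zero]
  exact ha

include hφ in
theorem locTors_cokernel : LocTors S (cokernel φ) := by
  intro U s x
  obtain ⟨V, g, ⟨v, hv⟩, t, ht⟩ := (Groth.Agent.Dix.EtaleSieve.epi_iff (cokernel.π φ)).1
    inferInstance U s x
  obtain ⟨W, h, w, hw, hW⟩ := exists_affine V v
  have := hφ W hW
  refine ⟨W, h ≫ g, w, ?_, ?_⟩
  · rw [← hv, ← hw]
    rfl
  · obtain ⟨⟨m, a⟩, hm⟩ := IsLocalizedModule.surj S (φ.hom.app (op W)).hom.toIntLinearMap
      (G.obj.map h.op t)
    refine ⟨a, a.2, ?_⟩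
    have h1 : (cokernel φ).obj.map (h ≫ g).op s =
        (cokernel.π φ).hom.app (op W) (G.obj.map h.op t) := by
      rw [app_map, ht, op_comp, Functor.map_comp]
      rfl
    have h2 : (cokernel.π φ).hom.app (op W) (φ.hom.app (op W) m) = 0 := by
      have := congrArg (fun ψ => (ψ.hom.app (op W)) m) (cokernel.condition φ)
      exact this
    rw [h1, ← map_zsmul]
    have h3 : (a : ℤ) • (G.obj.map h.op t : EtCoh.sect G W) = φ.hom.app (op W) m := hm
    rw [h3, h2]

include hφ in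
/-- Elements of `S` act bijectively on `G`. -/
theorem isIso_smul (a : ℤ) (ha : a ∈ S) : IsIso (a • 𝟙 G) := by
  have hb : ∀ V : X.Etale, IsAffine V.left →
      Function.Bijective (fun s : EtCoh.sect G V => a • s) := by
    intro V hV
    have := hφ V hV
    exact (Module.End.isUnit_iff _).1
      (IsLocalizedModule.map_units (φ.hom.app (op V)).hom.toIntLinearMap ⟨a, ha⟩)
  have h1 : ∀ (U : X.Etale) (s : EtCoh.sect G U), (a • 𝟙 G : G ⟶ G).hom.app (op U) s = a • s :=
    fun U s => rfl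
  have hmono : Mono (a • 𝟙 G) := by
    refine Sheaf.mono_of_injective _ (fun U => ?_)
    refine (injective_iff_map_eq_zero _).2 fun s hs => ?_
    refine Groth.Agent.Etbase.EtSite.sect_eq_zero G U.unop s (fun x => ?_)
    obtain ⟨V, g, v, hv, hV⟩ := exists_affine U.unop x
    refine ⟨V, g, v, hv, (hb V hV).1 ?_⟩
    have h2 : a • s = 0 := hs
    change a • (G.obj.map g.op s) = a • 0
    rw [← map_zsmul, h2, map_zero, smul_zero]
  have hepi : Epi (a • 𝟙 G) := by
    rw [Groth.Agent.Dix.EtaleSieve.epi_iff]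
    intro U s x
    obtain ⟨V, g, v, hv, hV⟩ := exists_affine U x
    obtain ⟨t, ht⟩ := (hb V hV).2 (G.obj.map g.op s)
    exact ⟨V, g, ⟨v, hv⟩, t, (h1 V t).trans ht⟩
  exact isIso_of_mono_of_epi _

end

section

variable [CompactSpace X] [QuasiSeparatedSpace X] (S : Submonoid ℤ)
  {T : ShortComplex (EtCoh.Ab X)} (hT : T.ShortExact)

include hT in
theorem isoMod_g (h : LocTors S T.X₁) (n : ℕ) :
    IsoMod S (Sheaf.H.map T.g n : EtCoh.H X T.X₂ n →+ EtCoh.H X T.X₃ n) where
  ker x hx := by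
    obtain ⟨y, rfl⟩ := Ext.covariant_sequence_exact₂ _ hT x hx
    obtain ⟨a, ha, h1⟩ := tors_H S T.X₁ h n y
    refine ⟨a, ha, ?_⟩
    have h2 : a • (Sheaf.H.map T.f n y) = 0 := by
      rw [← map_zsmul]
      exact (congrArg _ h1).trans (map_zero _)
    exact h2
  coker x := by
    obtain ⟨a, ha, h1⟩ := tors_H S T.X₁ h (n + 1) (x.comp hT.extClass rfl)
    refine ⟨a, ha, ?_⟩
    exact Ext.covariant_sequence_exact₃ _ hT (a • x) rfl
      ((map_zsmul (hT.extClass.postcomp _ rfl) a x).trans h1)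

include hT in
theorem isoMod_f (h : LocTors S T.X₃) (n : ℕ) :
    IsoMod S (Sheaf.H.map T.f n : EtCoh.H X T.X₁ n →+ EtCoh.H X T.X₂ n) where
  ker x hx := by
    cases n with
    | zero =>
      have := hT.mono_f
      refine ⟨1, S.one_mem, ?_⟩
      rw [one_smul]
      exact Ext.postcomp_mk₀_injective_of_mono _ T.f (hx.trans (map_zero _).symm)
    | succ n =>
      obtain ⟨y, rfl⟩ := Ext.covariant_sequence_exact₁ _ hT x hx rfl
      obtain ⟨a, ha, h1⟩ := tors_H S T.X₃ h n y
      exact ⟨a, ha, (map_zsmul (hT.extClass.postcomp _ rfl) a y).symm.trans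
        ((congrArg (hT.extClass.postcomp _ rfl) h1).trans (map_zero _))⟩
  coker x := by
    obtain ⟨a, ha, h1⟩ := tors_H S T.X₃ h n (Sheaf.H.map T.g n x)
    refine ⟨a, ha, ?_⟩
    exact Ext.covariant_sequence_exact₂ _ hT (a • x)
      ((map_zsmul (Sheaf.H.map T.g n : EtCoh.H X T.X₂ n →+ _) a x).trans h1)

end

/-- The short exact sequence `0 → ker φ → F → im φ → 0`. -/
theorem shortExact_left {F G : EtCoh.Ab X} (φ : F ⟶ G) :
    ∃ w : kernel.ι φ ≫ Abelian.factorThruImage φ = 0,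
      (ShortComplex.mk (kernel.ι φ) (Abelian.factorThruImage φ) w).ShortExact := by
  have w : kernel.ι φ ≫ Abelian.factorThruImage φ = 0 := by
    rw [← cancel_mono (Abelian.image.ι φ), Category.assoc, Abelian.image.fac, kernel.condition,
      zero_comp]
  refine ⟨w, ⟨?_⟩⟩
  let α : ShortComplex.mk (kernel.ι φ) (Abelian.factorThruImage φ) w ⟶
      ShortComplex.mk (kernel.ι φ) φ (kernel.condition φ) :=
    { τ₁ := 𝟙 _
      τ₂ := 𝟙 _
      τ₃ := Abelian.image.ι φ
      comm₁₂ := by simp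
      comm₂₃ := by simp }
  have h1 : Epi α.τ₁ := inferInstanceAs (Epi (𝟙 _))
  have h2 : IsIso α.τ₂ := inferInstanceAs (IsIso (𝟙 _))
  have h3 : Mono α.τ₃ := inferInstanceAs (Mono (Abelian.image.ι φ))
  rw [ShortComplex.exact_iff_of_epi_of_isIso_of_mono α]
  exact ShortComplex.exact_kernel φ

/-- The short exact sequence `0 → im φ → G → coker φ → 0`. -/
theorem shortExact_right {F G : EtCoh.Ab X} (φ : F ⟶ G) :
    ∃ w : Abelian.image.ι φ ≫ cokernel.π φ = 0,
      (ShortComplex.mk (Abelian.image.ι φ) (cokernel.π φ) w).ShortExact :=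
  ⟨kernel.condition _, ⟨ShortComplex.exact_kernel (cokernel.π φ)⟩⟩

/-- Cohomology commutes with localization at `S`. -/
theorem main [CompactSpace X] [QuasiSeparatedSpace X] (S : Submonoid ℤ) (F G : EtCoh.Ab X)
    (φ : F ⟶ G)
    (hφ : ∀ U : X.Etale, IsAffine U.left →
      IsLocalizedModule S (φ.hom.app (op U)).hom.toIntLinearMap)
    (i : ℕ) : IsLocalizedModule S ((EtCoh.HF X i).map φ).hom.toIntLinearMap := by
  obtain ⟨w1, h1⟩ := shortExact_left φ
  obtain ⟨w2, h2⟩ := shortExact_right φ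
  have k1 := isoMod_g S h1 (locTors_kernel S φ hφ) i
  have k2 := isoMod_f S h2 (locTors_cokernel S φ hφ) i
  have k : IsoMod S ((Sheaf.H.map (Abelian.image.ι φ) i : EtCoh.H X (Abelian.image φ) i →+
      EtCoh.H X G i).comp (Sheaf.H.map (Abelian.factorThruImage φ) i : EtCoh.H X F i →+ _)) :=
    k1.comp k2
  have hk : ∀ x : EtCoh.H X F i, (EtCoh.HF X i).map φ x =
      (Sheaf.H.map (Abelian.image.ι φ) i : _ →+ EtCoh.H X G i)
        ((Sheaf.H.map (Abelian.factorThruImage φ) i : EtCoh.H X F i →+ _) x) := by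
    intro x
    have e1 : (EtCoh.HF X i).map φ =
        (EtCoh.HF X i).map (Abelian.factorThruImage φ) ≫ (EtCoh.HF X i).map (Abelian.image.ι φ) := by
      rw [← Functor.map_comp, Abelian.image.fac]
    rw [e1]
    rfl
  constructor
  · intro a
    rw [Module.End.isUnit_iff]
    have := isIso_smul S φ hφ a a.2
    have hadd : (EtCoh.HF X i).Additive := by
      unfold EtCoh.HF
      infer_instance
    have h3 : IsIso ((EtCoh.HF X i).map ((a : ℤ) • 𝟙 G)) := inferInstance
    have h4 : (EtCoh.HF X i).map ((a : ℤ) • 𝟙 G) = (a : ℤ) • 𝟙 ((EtCoh.HF X i).obj G) := by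
      rw [Functor.map_zsmul, CategoryTheory.Functor.map_id]
    rw [h4] at h3
    exact ConcreteCategory.bijective_of_isIso ((a : ℤ) • 𝟙 ((EtCoh.HF X i).obj G))
  · intro y
    obtain ⟨a, ha, x, hx⟩ := k.coker y
    exact ⟨⟨x, ⟨a, ha⟩⟩, hx.symm.trans (hk x).symm⟩
  · intro (x₁ : EtCoh.H X F i) (x₂ : EtCoh.H X F i) h
    obtain ⟨a, ha, h5⟩ := k.ker (x₁ - x₂) ((map_sub _ x₁ x₂).trans
      (sub_eq_zero.2 ((hk x₁).symm.trans (h.trans (hk x₂)))))
    refine ⟨⟨a, ha⟩, ?_⟩
    exact sub_eq_zero.1 ((smul_sub a x₁ x₂).symm.trans h5)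

end K721.LocCoh
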