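import Groth.Agent.S0099
import Groth.Agent.Dix.EtaleSieve
import Groth.Agent.Etbase.EtSite
import Mathlib.CategoryTheory.Functor.OfSequence

/-!
# Cohomology of sheaves locally killed by a multiplicative set of integers

On a quasi-compact quasi-separated scheme, if every section of `N` is locally killed by an element
of the multiplicative set `S ⊆ ℤ`, then every cohomology class of `N` is killed by an element of `S`.
-/

set_option autoImplicit false
universe u
open CategoryTheory CategoryTheory.Limits AlgebraicGeometry Opposite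

namespace K721.SeqColim

variable {X : Scheme.{u}}

/-- Every section of `N` is étale-locally killed by an element of `S`. -/
def LocTors (S : Submonoid ℤ) (N : EtCoh.Ab X) : Prop :=
  ∀ (U : X.Etale) (s : EtCoh.sect N U) (x : U.left), ∃ (V : X.Etale) (g : V ⟶ U) (v : V.left),
    g.left v = x ∧ ∃ a ∈ S, a • (N.obj.map g.op s) = 0

/-- The sequence `N → N → N → ⋯` with transition maps multiplication by `r n`. -/
noncomputable def seqDiag (r : ℕ → ℤ) (N : EtCoh.Ab X) : ℕ ⥤ EtCoh.Ab X :=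
  Functor.ofSequence (X := fun _ => N) (fun n => r n • 𝟙 N)

theorem seqDiag_succ (r : ℕ → ℤ) (N : EtCoh.Ab X) (n : ℕ) :
    (seqDiag r N).map (homOfLE (Nat.le_add_right n 1)) = r n • 𝟙 N :=
  Functor.ofSequence_map_homOfLE_succ (X := fun _ => N) _ n

theorem seqDiag_map (S : Submonoid ℤ) (r : ℕ → ℤ) (hr : ∀ n, r n ∈ S) (N : EtCoh.Ab X) (n m : ℕ)
    (h : n ≤ m) : ∃ c ∈ S, (seqDiag r N).map (homOfLE h) = c • 𝟙 N := by
  induction m, h using Nat.le_induction with
  | base =>
    refine ⟨1, S.one_mem, ?_⟩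
    rw [one_smul]
    exact (seqDiag r N).map_id n
  | succ m hm ih =>
    obtain ⟨c, hc, h1⟩ := ih
    refine ⟨c * r m, S.mul_mem hc (hr m), ?_⟩
    have h2 : homOfLE (hm.trans (Nat.le_add_right m 1)) =
      homOfLE hm ≫ homOfLE (Nat.le_add_right m 1) := rfl
    have h3 : (seqDiag r N).map (homOfLE (hm.trans (Nat.le_add_right m 1))) =
        (c • 𝟙 N) ≫ (r m • 𝟙 N) := by
      rw [h2, Functor.map_comp, h1, seqDiag_succ]
      rfl
    refine h3.trans ?_
    rw [Preadditive.zsmul_comp, Preadditive.comp_zsmul, Category.comp_id, smul_smul]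

/-- The maps of a cocone, with source `N`. -/
noncomputable def cι {r : ℕ → ℤ} {N : EtCoh.Ab X} (c : Cocone (seqDiag r N)) (n : ℕ) : N ⟶ c.pt :=
  c.ι.app n

theorem cι_succ {r : ℕ → ℤ} {N : EtCoh.Ab X} (c : Cocone (seqDiag r N)) (n : ℕ) :
    cι c n = r n • cι c (n + 1) := by
  have h2 := c.w (homOfLE (Nat.le_add_right n 1))
  rw [seqDiag_succ] at h2
  have h3 : (r n • 𝟙 N) ≫ cι c (n + 1) = cι c n := h2
  rw [← h3, Preadditive.zsmul_comp, Category.id_comp]

theorem cι_eq_zero (S : Submonoid ℤ) (r : ℕ → ℤ)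
    (hr' : ∀ a ∈ S, ∃ n₀, ∀ n ≥ n₀, ∃ c, r n = c * a) (N : EtCoh.Ab X) (hN : LocTors S N)
    (c : Cocone (seqDiag r N)) (n : ℕ) : cι c n = 0 := by
  have hstep : ∀ m, n ≤ m → ∃ b : ℤ, cι c n = b • cι c m := by
    intro m hm
    induction m, hm using Nat.le_induction with
    | base => exact ⟨1, (one_smul _ _).symm⟩
    | succ m hm ih =>
      obtain ⟨b, hb⟩ := ih
      refine ⟨b * r m, ?_⟩
      rw [hb, cι_succ, smul_smul]
  apply Sheaf.hom_ext
  ext U s
  change (cι c n).hom.app U s = 0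
  refine Groth.Agent.Etbase.EtSite.sect_eq_zero c.pt U.unop _ (fun x => ?_)
  obtain ⟨V, g, v, hv, a, ha, h0⟩ := hN U.unop s x
  refine ⟨V, g, v, hv, ?_⟩
  obtain ⟨n₀, hn₀⟩ := hr' a ha
  obtain ⟨b, hb⟩ := hstep (max n n₀) (le_max_left _ _)
  obtain ⟨b', hb'⟩ := hn₀ (max n n₀) (le_max_right _ _)
  have h3 : cι c n = (b * b') • (a • cι c (max n n₀ + 1)) := by
    rw [hb, cι_succ, hb', smul_smul, smul_smul, mul_assoc]
  have h4 : c.pt.obj.map g.op ((cι c n).hom.app U s) =
      (cι c n).hom.app (op V) (N.obj.map g.op s) :=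
    (congrArg (fun φ => φ s) ((cι c n).hom.naturality g.op)).symm
  rw [h4]
  generalize cι c (max n n₀ + 1) = φ at h3
  have h5 : (a • φ).hom.app (op V) (N.obj.map g.op s) = 0 := by
    have h6 : (a • φ).hom.app (op V) (N.obj.map g.op s) =
        a • (φ.hom.app (op V) (N.obj.map g.op s)) := rfl
    rw [h6, ← map_zsmul, h0, map_zero]
  have h7 : (cι c n).hom.app (op V) (N.obj.map g.op s) =
      (b * b') • ((a • φ).hom.app (op V) (N.obj.map g.op s)) := by
    have := congrArg (fun ψ : N ⟶ c.pt => ψ.hom.app (op V) (N.obj.map g.op s)) h3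
    exact this
  rw [h7, h5, smul_zero]

theorem preservesNat_HF (X : Scheme.{u}) [CompactSpace X] [QuasiSeparatedSpace X] (n : ℕ) :
    PreservesColimitsOfShape ℕ (EtCoh.HF X n) := by
  have : IsFiltered (AsSmall.{u} ℕ) := IsFiltered.of_equivalence AsSmall.equiv
  have := Groth.Agent.S0099.result X n (AsSmall.{u} ℕ)
  exact preservesColimitsOfShape_of_equiv (AsSmall.equiv (C := ℕ)).symm _

theorem preservesNat_forget : PreservesColimitsOfShape ℕ (forget AddCommGrpCat.{u}) := by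
  have : IsFiltered (AsSmall.{u} ℕ) := IsFiltered.of_equivalence AsSmall.equiv
  exact preservesColimitsOfShape_of_equiv (AsSmall.equiv (C := ℕ)).symm _

/-- Exhausting sequences for a multiplicative set of integers. -/
theorem exists_seq (S : Submonoid ℤ) :
    ∃ r : ℕ → ℤ, (∀ n, r n ∈ S) ∧ ∀ a ∈ S, ∃ n₀, ∀ n ≥ n₀, ∃ c, r n = c * a := by
  obtain ⟨s, hs⟩ : ∃ s : ℕ → S, Function.Surjective s := exists_surjective_nat S
  refine ⟨fun n => ∏ i ∈ Finset.range (n + 1), (s i : ℤ), fun n => S.prod_mem fun i _ => (s i).2,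
    fun a ha => ?_⟩
  obtain ⟨j, hj⟩ := hs ⟨a, ha⟩
  refine ⟨j, fun n hn => ?_⟩
  refine ⟨∏ i ∈ (Finset.range (n + 1)).erase j, (s i : ℤ), ?_⟩
  have h := Finset.prod_erase_mul (Finset.range (n + 1)) (fun i => (s i : ℤ)) (a := j)
    (Finset.mem_range.2 (by omega))
  rw [hj] at h
  exact h.symm

/-- Cohomology classes of a sheaf locally killed by `S` are killed by `S`. -/
theorem tors_H [CompactSpace X] [QuasiSeparatedSpace X] (S : Submonoid ℤ) (N : EtCoh.Ab X)
    (hN : LocTors S N) (i : ℕ) (x : EtCoh.H X N i) : ∃ a ∈ S, a • x = 0 := by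
  obtain ⟨r, hr, hr'⟩ := exists_seq S
  have := preservesNat_HF X i
  have : (EtCoh.HF X i).Additive := by
    unfold EtCoh.HF
    infer_instance
  have := preservesNat_forget.{u + 1}
  have hc := isColimitOfPreserves (EtCoh.HF X i) (colimit.isColimit (seqDiag r N))
  have h0 : ((EtCoh.HF X i).mapCocone (colimit.cocone (seqDiag r N))).ι.app 0 = 0 := by
    change (EtCoh.HF X i).map ((colimit.cocone (seqDiag r N)).ι.app 0) = 0
    rw [show (colimit.cocone (seqDiag r N)).ι.app 0 = (0 : N ⟶ _) from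
      cι_eq_zero S r hr' N hN (colimit.cocone (seqDiag r N)) 0]
    exact Functor.map_zero _ _ _
  obtain ⟨k, f, g, h⟩ := Concrete.isColimit_exists_of_rep_eq (seqDiag r N ⋙ EtCoh.HF X i) hc
    (i := 0) (j := 0) (x : (EtCoh.HF X i).obj N) (0 : (EtCoh.HF X i).obj N) (by rw [h0]; rfl)
  obtain ⟨c, hcS, hcm⟩ := seqDiag_map S r hr N 0 k (leOfHom f)
  refine ⟨c, hcS, ?_⟩
  have h1 : (EtCoh.HF X i).map (c • 𝟙 N) = c • 𝟙 ((EtCoh.HF X i).obj N) := by
    rw [Functor.map_zsmul, CategoryTheory.Functor.map_id]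
  have h2 : (seqDiag r N ⋙ EtCoh.HF X i).map f = c • 𝟙 ((EtCoh.HF X i).obj N) := by
    rw [← h1]
    exact congrArg (EtCoh.HF X i).map hcm
  rw [h2] at h
  refine Eq.trans ?_ (h.trans (map_zero ((seqDiag r N ⋙ EtCoh.HF X i).map g).hom))
  rfl

end K721.SeqColim
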