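import Groth.Agent.EtCoh.K721.TransFinal
import Groth.Agent.Sga2lef.H92.Descend
import Groth.Agent.Sga2lef.H92.HpullLES
import Groth.Agent.Etcore.ShriekBaseChange

/-!
# Lefschetz theorem for the complement of a smooth transversal divisor over a field
-/

set_option autoImplicit false
universe u

open CategoryTheory CategoryTheory.Limits AlgebraicGeometry Opposite CategoryTheory.Abelian

namespace K721.TransField

open Groth.Agent

attribute [local instance] AlgebraicGeometry.smoothOfRelativeDimension_isStableUnderBaseChange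

theorem range_of_isPullback {A B C D : Scheme.{u}} {a : A ⟶ B} {b : A ⟶ C} {c : B ⟶ D} {d : C ⟶ D}
    (h : IsPullback a b c d) : Set.range b = d ⁻¹' Set.range c := by
  have h1 : b = h.isoPullback.hom ≫ pullback.snd c d := (h.isoPullback_hom_snd).symm
  rw [h1, Scheme.Hom.comp_base, TopCat.coe_comp, Set.range_comp, (Scheme.Hom.surjective _).range_eq,
    Set.image_univ, Scheme.Pullback.range_snd]

section Main

variable (k : Type u) [Field k] {X Y E V W : Scheme.{u}}
  (f : X ⟶ Spec (CommRingCat.of k)) [IsProper f] (M : ℕ) [hf : SmoothOfRelativeDimension (M + 2) f]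
  (i : Y ⟶ X) [IsClosedImmersion i] [hiY : SmoothOfRelativeDimension (M + 1) (i ≫ f)]
  (e : E ⟶ X) [IsClosedImmersion e] [heE : SmoothOfRelativeDimension (M + 1) (e ≫ f)]
  [hE'' : SmoothOfRelativeDimension M (pullback.snd e i ≫ i ≫ f)]
  (g : V ⟶ X) [IsOpenImmersion g] (hg : Set.range g = (Set.range e)ᶜ)
  (J : W ⟶ X) [IsOpenImmersion J] [IsAffine W] (hJ : Set.range J = (Set.range i)ᶜ)
  (m : ℕ) (hm : (m : k) ≠ 0)

include hg hJ hm hf hiY heE hE''

theorem vanish (q : ℕ) (hq : q < M + 2) :
    Subsingleton (EtCoh.H V ((EtShriek.extZero (pullback.fst g J)).obj (EtCoh.const _ (ZMod m))) q) := by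
  have hnX : IsLocallyNoetherian X := LocallyOfFiniteType.isLocallyNoetherian f
  have hnV : IsLocallyNoetherian V := isLocallyNoetherian_of_isOpenImmersion g
  have hcX : CompactSpace X := QuasiCompact.compactSpace_of_compactSpace f
  have hNX : IsNoetherian X := { }
  have hqc : QuasiCompact g := inferInstance
  refine Sga2lef.H92.Descend.H_subsingleton_of_algClosed (g ≫ f) _ (M + 2) ?_ q hq
  intro L _ _ t VL w gL hsq q hq
  let φ : k →+* L := (Spec.preimage t).hom
  have hmL : (m : L) ≠ 0 := by
    rw [← map_natCast φ m]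
    exact (map_ne_zero φ).2 hm
  -- base change of `X`
  let x : pullback f t ⟶ X := pullback.fst f t
  let fL : pullback f t ⟶ Spec (CommRingCat.of L) := pullback.snd f t
  have hX : IsPullback x fL f t := IsPullback.of_hasPullback f t
  have hfLp : IsProper fL := MorphismProperty.of_isPullback (P := @IsProper) hX ‹_›
  have hfLs : SmoothOfRelativeDimension (M + 2) fL :=
    MorphismProperty.of_isPullback (P := @SmoothOfRelativeDimension (M + 2)) hX hf
  have hxa : IsAffineHom x := MorphismProperty.of_isPullback (P := @IsAffineHom) hX.flip inferInstance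
  -- base change of `V`
  let gX : VL ⟶ pullback f t := hX.lift (w ≫ g) gL (by rw [Category.assoc]; exact hsq.w)
  have hgX1 : gX ≫ x = w ≫ g := hX.lift_fst _ _ _
  have hgX2 : gX ≫ fL = gL := hX.lift_snd _ _ _
  have hVL : IsPullback w gX g x := by
    refine IsPullback.of_bot ?_ hgX1.symm hX
    rw [hgX2]
    exact hsq
  have hgXo : IsOpenImmersion gX := MorphismProperty.of_isPullback (P := @IsOpenImmersion) hVL inferInstance
  -- base change of `Y`, `E`, `W`
  let aY : pullback i x ⟶ Y := pullback.fst i x
  let iL : pullback i x ⟶ pullback f t := pullback.snd i x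
  have hY : IsPullback aY iL i x := IsPullback.of_hasPullback i x
  have hYf : IsPullback aY (iL ≫ fL) (i ≫ f) t := hY.paste_vert hX
  have hiL : IsClosedImmersion iL := inferInstance
  have hYs : SmoothOfRelativeDimension (M + 1) (iL ≫ fL) :=
    MorphismProperty.of_isPullback (P := @SmoothOfRelativeDimension (M + 1)) hYf hiY
  let aE : pullback e x ⟶ E := pullback.fst e x
  let eL : pullback e x ⟶ pullback f t := pullback.snd e x
  have hE : IsPullback aE eL e x := IsPullback.of_hasPullback e x
  have heL : IsClosedImmersion eL := inferInstance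
  have hEs : SmoothOfRelativeDimension (M + 1) (eL ≫ fL) :=
    MorphismProperty.of_isPullback (P := @SmoothOfRelativeDimension (M + 1)) (hE.paste_vert hX) heE
  let aW : pullback J x ⟶ W := pullback.fst J x
  let JL : pullback J x ⟶ pullback f t := pullback.snd J x
  have hW : IsPullback aW JL J x := IsPullback.of_hasPullback J x
  have hJL : IsOpenImmersion JL := inferInstance
  have haW : IsAffineHom aW := MorphismProperty.of_isPullback (P := @IsAffineHom) hW.flip hxa
  have hWa : IsAffine (pullback J x) := isAffine_of_isAffineHom aW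
  -- the intersection
  let a' : pullback (pullback.snd e i) aY ⟶ pullback e i := pullback.fst (pullback.snd e i) aY
  let e'L : pullback (pullback.snd e i) aY ⟶ pullback i x := pullback.snd (pullback.snd e i) aY
  have h1 : IsPullback a' e'L (pullback.snd e i) aY := IsPullback.of_hasPullback _ _
  have h2 : IsPullback (a' ≫ pullback.fst e i) e'L e (iL ≫ x) := by
    have h3 := h1.paste_horiz (IsPullback.of_hasPullback e i)
    rw [hY.w] at h3
    exact h3
  have hE' := IsPullback.of_right' h2 hE
  have hE's : SmoothOfRelativeDimension M (e'L ≫ iL ≫ fL) :=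
    MorphismProperty.of_isPullback (P := @SmoothOfRelativeDimension M) (h1.paste_vert hYf) hE''
  -- the open `U`
  let jL : pullback w (pullback.fst g J) ⟶ VL := pullback.fst w (pullback.fst g J)
  let aU : pullback w (pullback.fst g J) ⟶ pullback g J := pullback.snd w (pullback.fst g J)
  have hU0 : IsPullback jL aU w (pullback.fst g J) := IsPullback.of_hasPullback _ _
  have h4 : IsPullback (aU ≫ pullback.snd g J) jL J (gX ≫ x) := by
    have h5 := hU0.flip.paste_horiz (IsPullback.of_hasPullback g J).flip
    rw [← hgX1] at h5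
    exact h5
  have hU := (IsPullback.of_right' h4 hW).flip
  have hv := TransFinal.vanish L fL M iL eL _ e'L hE' gX
    (by rw [range_of_isPullback hVL, range_of_isPullback hE, hg, Set.preimage_compl]) JL
    (by rw [range_of_isPullback hW, range_of_isPullback hY, hJ, Set.preimage_compl]) m hmL jL _ hU q hq
  let ε : (EtCoh.pull w).obj ((EtShriek.extZero (pullback.fst g J)).obj (EtCoh.const _ (ZMod m))) ≅
      (EtShriek.extZero jL).obj (EtCoh.const _ (ZMod m)) :=
    ((Groth.Agent.Etcore.ShriekBaseChange.extZeroBaseChange (pullback.fst g J) w jL aU hU0).app _).symm ≪≫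
      (EtShriek.extZero jL).mapIso (EtCore.pullConst aU (ZMod m))
  exact Groth.Agent.EtpbcA.CdEtLeray.H_subsingleton_of_iso ε.symm q hv

/-- The Lefschetz statement for `V`. -/
theorem lefschetz {V' : Scheme.{u}} (κ : V' ⟶ V) [IsClosedImmersion κ] (hκ : Set.range κ = g ⁻¹' Set.range i)
    [PreservesFiniteLimits (EtCoh.pull κ)] :
    (∀ q : ℕ, q + 1 < M + 2 → Function.Bijective (EtCore.Hpull κ (EtCoh.const V (ZMod m)) q)) ∧
    (∀ q : ℕ, q + 1 = M + 2 → Function.Injective (EtCore.Hpull κ (EtCoh.const V (ZMod m)) q)) := by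
  have hd : IsCompl (Set.range κ) (Set.range (pullback.fst g J)) := by
    rw [Scheme.Pullback.range_fst, hJ, Set.preimage_compl, hκ]
    exact isCompl_compl
  have key : ∀ q : ℕ, q < M + 2 → Subsingleton (EtCoh.H V ((EtShriek.extZero (pullback.fst g J)).obj
      ((EtShriek.restrAlong (pullback.fst g J)).obj (EtCoh.const V (ZMod m)))) q) := by
    intro q hq
    have h1 := vanish k f M i e g hg J hJ m hm q hq
    let ε : (EtShriek.extZero (pullback.fst g J)).obj (EtCoh.const _ (ZMod m)) ≅
        (EtShriek.extZero (pullback.fst g J)).obj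
          ((EtShriek.restrAlong (pullback.fst g J)).obj (EtCoh.const V (ZMod m))) :=
      (EtShriek.extZero (pullback.fst g J)).mapIso ((EtCore.pullConst (pullback.fst g J) (ZMod m)).symm ≪≫
        (Groth.Agent.Etcore.ShriekBasic.pullIsoRestr (pullback.fst g J)).app _)
    exact Groth.Agent.EtpbcA.CdEtLeray.H_subsingleton_of_iso ε q h1
  exact ⟨fun q hq => Sga2lef.H92.HpullLES.Hpull_bijective κ (pullback.fst g J) hd _ q
      (key q (by omega)) (key (q + 1) (by omega)),
    fun q hq => Sga2lef.H92.HpullLES.Hpull_injective κ (pullback.fst g J) hd _ q (key q (by omega))⟩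

end Main

end K721.TransField
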