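import Groth.Agent.Sga4h.H15.TwoChart
import Groth.Agent.EtpbcA.CdEtLeray
import Groth.Agent.Sga4h.PushDer

/-!
# Leray for an open immersion when all `R^q g_* F` are extensions by zero from `W`
-/

set_option autoImplicit false
universe u

open CategoryTheory CategoryTheory.Limits AlgebraicGeometry Opposite

namespace K721.TransVan

open Groth.Agent Groth.Agent.Sga4h.H15.TwoChart EtCoh

/-- A sheaf with zero stalks off `W` is the extension by zero of its restriction. -/
theorem nonempty_extZero {W X : Scheme.{u}} (J : W ⟶ X) [IsOpenImmersion J] {T : Ab X} (h : Off J T)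
    {G : Ab W} (e : Nonempty ((pull J).obj T ≅ G)) : Nonempty (T ≅ (EtShriek.extZero J).obj G) := by
  obtain ⟨e⟩ := e
  have hiso := Groth.Agent.Etcore.ShriekUnique.isIso_counit_of_isZero_stalks J T
    (fun Ω _ _ ξ hξ => h Ω ξ (hξ ⟨default, rfl⟩))
  exact ⟨(asIso ((EtShriek.extZeroAdj J).counit.app T)).symm ≪≫
    (EtShriek.extZero J).mapIso ((Groth.Agent.Sga4h.EtaleRes.pullIsoRestr J).symm.app T ≪≫ e)⟩

/-- Vanishing of the cohomology of `F` in degrees `< N`. -/
theorem subsingleton_H {V W X : Scheme.{u}} (g : V ⟶ X) (J : W ⟶ X) [IsOpenImmersion J] (F : Ab V) (N : ℕ)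
    (hoff : ∀ q, Off J ((Rpush g q).obj F)) (G₀ G₁ : Ab W)
    (e₀ : Nonempty ((pull J).obj ((Rpush g 0).obj F) ≅ G₀))
    (e₁ : Nonempty ((pull J).obj ((Rpush g 1).obj F) ≅ G₁))
    (e₂ : ∀ q, 2 ≤ q → IsZero ((pull J).obj ((Rpush g q).obj F)))
    (h₀ : ∀ b, b < N → Subsingleton (H X ((EtShriek.extZero J).obj G₀) b))
    (h₁ : ∀ b, b + 1 < N → Subsingleton (H X ((EtShriek.extZero J).obj G₁) b)) (n : ℕ) (hn : n < N) :
    Subsingleton (H V F n) := by
  refine EtpbcA.CdEtLeray.H_subsingleton_of_leray g F n ?_ ?_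
  · obtain ⟨e⟩ := nonempty_extZero J (hoff 0) e₀
    exact EtpbcA.CdEtLeray.H_subsingleton_of_iso
      (e.symm ≪≫ (Groth.Agent.Sga4h.PushDer.rpushZeroIso g).app F) n (h₀ n hn)
  · intro p q hpq
    rcases q with _ | q
    · obtain ⟨e⟩ := nonempty_extZero J (hoff 1) e₁
      exact EtpbcA.CdEtLeray.H_subsingleton_of_iso e.symm p (h₁ p (by omega))
    · refine EtpbcA.CdEtLeray.H_subsingleton_of_isZero ?_ p
      exact isZero_of_off J (hoff (q + 2)) (e₂ (q + 2) (by omega))

end K721.TransVan
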