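import Groth.Agent.EtCoh.K721.TransOff
import Groth.Agent.EtCoh.K721.TransVan
import Groth.Agent.EtpbcA.CdExact
import Groth.Agent.S0653
import Groth.Agent.S3099
import Groth.Agent.S4259
import Groth.Agent.Sga5.HcConst2

/-!
# Vanishing of `H^q(V, j_! ℤ/m)`, `V` the complement of a smooth divisor transversal to `Y`

Over an algebraically closed field `L`: `X` proper and smooth of dimension `N`, `Y ⊂ X` with affine complement,
`E ⊂ X` a smooth divisor meeting `Y` transversally, `V = X ∖ E`, `j : V ∖ Y → V`: `H^q(V, j_! ℤ/m) = 0` for `q < N`.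
-/

set_option autoImplicit false
universe u

open CategoryTheory CategoryTheory.Limits AlgebraicGeometry Opposite CategoryTheory.Abelian

namespace K721.TransFinal

open Groth.Agent Groth.Agent.Sga4h.H926.Chart Groth.Agent.Sga4h.H926.LocEq Groth.Agent.Sga4h.H15.TwoChart

/-- The purity package for a smooth divisor. -/
theorem purity {S X E V : Scheme.{u}} (m : ℕ) (hm : IsUnit (m : Γ(S, ⊤))) (M : ℕ)
    (f : X ⟶ S) [SmoothOfRelativeDimension (M + 1) f] (e : E ⟶ X) [IsClosedImmersion e]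
    [SmoothOfRelativeDimension M (e ≫ f)] (g : V ⟶ X) [IsOpenImmersion g]
    (hg : Set.range g = (Set.range e)ᶜ) :
    IsIso ((EtCoh.pullPushAdj g).unit.app (EtCoh.mu X m)) ∧
    (∀ q, 2 ≤ q → IsZero ((EtCoh.Rpush g q).obj (EtCoh.mu V m))) ∧
    Nonempty ((EtCoh.Rpush g 1).obj (EtCoh.mu V m) ≅ (EtCoh.push e).obj (EtCoh.const E (ZMod m))) ∧
    (∀ y : E, ∃ (C : Type u) (_ : CommRing C) (v : Spec (CommRingCat.of C) ⟶ X) (t : C),
      Etale v ∧ e y ∈ Set.range v ∧ IsChart e C v t) := by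
  have hmX : IsUnit (m : Γ(X, ⊤)) := by
    have h1 := hm.map f.appTop.hom
    rwa [map_natCast] at h1
  have h1 := Groth.Agent.S3099.result f (e ≫ f) e M 1 one_pos rfl g hg m hmX (EtCoh.mu X m)
    (Sga4h.H926.MuFLC.isFLC_mu X m hmX) (Sga4h.H926.MuFLC.killedBy_mu X m)
  have hsm : SmoothOfRelativeDimension (M + 1 - 1) (e ≫ f) := by
    rw [Nat.add_sub_cancel]
    infer_instance
  refine ⟨h1.1, fun q hq => ?_, ?_, fun y => ?_⟩
  · exact (h1.2 q (by omega) (by omega)).of_iso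
      ((EtCoh.Rpush g q).mapIso (Sga5.H848.PullMu.pullMuIso g m hmX).symm)
  · exact Groth.Agent.S4259.result m hm (M + 1) (by omega) f (e ≫ f) e rfl g hg
  · exact exists_isChart e f (e ≫ f) rfl (M + 1) (by omega) m hmX y

/-- The stalks of `R^1 g_* μ_m` at the points of the divisor have `m` elements. -/
theorem card_stalk_one {X E V : Scheme.{u}} (m : ℕ) (hm0 : m ≠ 0) (e : E ⟶ X) [IsClosedImmersion e] (g : V ⟶ X)
    (h : Nonempty ((EtCoh.Rpush g 1).obj (EtCoh.mu V m) ≅ (EtCoh.push e).obj (EtCoh.const E (ZMod m))))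
    {Ω : Type u} [Field Ω] [IsSepClosed Ω] (ζ : Spec (CommRingCat.of Ω) ⟶ E) :
    Nat.card ((EtCoh.stalk (ζ ≫ e)).obj ((EtCoh.Rpush g 1).obj (EtCoh.mu V m))) = m := by
  obtain ⟨ε⟩ := h
  obtain ⟨ε'⟩ := Groth.Agent.S0070.result e (EtCoh.const E (ZMod m)) ζ
  have : NeZero m := ⟨hm0⟩
  rw [Nat.card_congr ((EtCoh.stalk (ζ ≫ e)).mapIso ε ≪≫ ε').addCommGroupIsoToAddEquiv.toEquiv,
    Sga4h.H926.MuFLC.card_stalk_const, Nat.card_zmod]

/-- Cohomology of `e_* F` vanishes with that of `F`. -/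
theorem subsingleton_H_push {E X : Scheme.{u}} (e : E ⟶ X) [IsClosedImmersion e] (F : EtCoh.Ab E) (q : ℕ)
    (h : Subsingleton (EtCoh.H E F q)) : Subsingleton (EtCoh.H X ((EtCoh.push e).obj F) q) := by
  have h1 := Groth.Agent.Sga5.ClosedPush.preservesFiniteColimits_push e
  exact (EtpbcA.CdExact.H_push_iff e F q).2 h

section Main

variable (L : Type u) [Field L] [IsAlgClosed L] {X Y E E' V V' U W : Scheme.{u}}
  (f : X ⟶ Spec (CommRingCat.of L)) [IsProper f] (M : ℕ) [hf : SmoothOfRelativeDimension (M + 2) f]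
  (i : Y ⟶ X) [IsClosedImmersion i] [hiY : SmoothOfRelativeDimension (M + 1) (i ≫ f)]
  (e : E ⟶ X) [IsClosedImmersion e] [heE : SmoothOfRelativeDimension (M + 1) (e ≫ f)]
  (π : E' ⟶ E) (e' : E' ⟶ Y) (hE : IsPullback π e' e i) [hE'' : SmoothOfRelativeDimension M (e' ≫ i ≫ f)]
  (g : V ⟶ X) [IsOpenImmersion g] (hg : Set.range g = (Set.range e)ᶜ)
  (J : W ⟶ X) [IsOpenImmersion J] [IsAffine W] (hJ : Set.range J = (Set.range i)ᶜ)
  (m : ℕ) (hm : (m : L) ≠ 0)

include hE hg hJ hm hf hiY heE hE''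

theorem vanish (j : U ⟶ V) [IsOpenImmersion j] (j₂ : U ⟶ W) (hU : IsPullback j j₂ g J) (q : ℕ) (hq : q < M + 2) :
    Subsingleton (EtCoh.H V ((EtShriek.extZero j).obj (EtCoh.const U (ZMod m))) q) := by
  have hm0 : m ≠ 0 := by
    rintro rfl
    exact hm (by simp)
  have hmS : IsUnit (m : Γ(Spec (CommRingCat.of L), ⊤)) := by
    have h := (IsUnit.mk0 _ hm).map (Scheme.ΓSpecIso (CommRingCat.of L)).inv.hom
    rwa [map_natCast] at h
  have hmX : IsUnit (m : Γ(X, ⊤)) := by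
    have h1 := hmS.map f.appTop.hom
    rwa [map_natCast] at h1
  have he' : IsClosedImmersion e' := MorphismProperty.of_isPullback (P := @IsClosedImmersion) hE inferInstance
  have hj₂ : IsOpenImmersion j₂ := MorphismProperty.of_isPullback (P := @IsOpenImmersion) hU inferInstance
  let κ : pullback g i ⟶ V := pullback.fst g i
  let g' : pullback g i ⟶ Y := pullback.snd g i
  have hV : IsPullback κ g' g i := IsPullback.of_hasPullback g i
  -- ranges
  have hre' : Set.range e' = i ⁻¹' Set.range e := by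
    have h1 : e' = hE.isoPullback.hom ≫ pullback.snd e i := (hE.isoPullback_hom_snd).symm
    rw [h1, Scheme.Hom.comp_base, TopCat.coe_comp, Set.range_comp, (Scheme.Hom.surjective _).range_eq,
      Set.image_univ, Scheme.Pullback.range_snd]
  have hV' : Set.range g' = (Set.range e')ᶜ := by
    rw [hre', Scheme.Pullback.range_snd, hg, Set.preimage_compl]
  have hrj : Set.range j = g ⁻¹' Set.range J := by
    have h1 : j = hU.isoPullback.hom ≫ pullback.fst g J := (hU.isoPullback_hom_fst).symm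
    rw [h1, Scheme.Hom.comp_base, TopCat.coe_comp, Set.range_comp, (Scheme.Hom.surjective _).range_eq,
      Set.image_univ, Scheme.Pullback.range_fst]
  have hd : IsCompl (Set.range κ) (Set.range j) := by
    rw [hrj, hJ, Set.preimage_compl, Scheme.Pullback.range_fst]
    exact isCompl_compl
  -- purity for the three pairs
  obtain ⟨a1, a2, a3, a4⟩ := purity m hmS (M + 1) f e g hg
  obtain ⟨b1, b2, b3, b4⟩ := purity m hmS M (i ≫ f) e' g' hV'
  let J' : pullback e J ⟶ E := pullback.fst e J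
  let eW : pullback e J ⟶ W := pullback.snd e J
  have hJf : SmoothOfRelativeDimension (M + 1 + 1) (J ≫ f) := by
    have h1 : SmoothOfRelativeDimension (0 + (M + 1 + 1)) (J ≫ f) := inferInstance
    rwa [zero_add] at h1
  have hJf' : SmoothOfRelativeDimension (M + 1) (J' ≫ e ≫ f) := by
    have h1 : SmoothOfRelativeDimension (0 + (M + 1)) (J' ≫ e ≫ f) := inferInstance
    rwa [zero_add] at h1
  have hJf'' : SmoothOfRelativeDimension (M + 1) (eW ≫ J ≫ f) := by
    have h1 : eW ≫ J ≫ f = J' ≫ e ≫ f := by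
      rw [← Category.assoc, ← Category.assoc]
      congr 1
      exact (pullback.condition).symm
    rw [h1]
    exact hJf'
  have hj₂r : Set.range j₂ = (Set.range eW)ᶜ := by
    have h1 : j₂ = hU.isoPullback.hom ≫ pullback.snd g J := (hU.isoPullback_hom_snd).symm
    rw [h1, Scheme.Hom.comp_base, TopCat.coe_comp, Set.range_comp, (Scheme.Hom.surjective _).range_eq,
      Set.image_univ, Scheme.Pullback.range_snd, Scheme.Pullback.range_snd, hg, Set.preimage_compl]
  obtain ⟨c1, c2, c3, -⟩ := purity m hmS (M + 1) (J ≫ f) eW j₂ hj₂r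
  -- the sheaf
  have hmV : IsUnit (m : Γ(V, ⊤)) := by
    have h1 := hmX.map g.appTop.hom
    rwa [map_natCast] at h1
  have hmW : IsUnit (m : Γ(W, ⊤)) := by
    have h1 := hmX.map J.appTop.hom
    rwa [map_natCast] at h1
  let R : EtCoh.Ab U := (EtShriek.restrAlong j).obj (EtCoh.mu V m)
  let eR : R ≅ EtCoh.mu U m := (Groth.Agent.Sga4h.EtaleRes.pullIsoRestr j).symm.app _ ≪≫
    Sga5.H848.PullMu.pullMuIso j m hmV
  obtain ⟨eU⟩ := CurvesA.MuConst.nonempty_iso_const_mu_of_isSepClosed (X := U) L m hm (j ≫ g ≫ f)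
  obtain ⟨eWW⟩ := CurvesA.MuConst.nonempty_iso_const_mu_of_isSepClosed (X := W) L m hm (J ≫ f)
  refine EtpbcA.CdEtLeray.H_subsingleton_of_iso ((EtShriek.extZero j).mapIso (eR ≪≫ eU.symm)) q ?_
  refine TransVan.subsingleton_H g J ((EtShriek.extZero j).obj R) (M + 2) ?_
    (EtCoh.const W (ZMod m)) ((EtCoh.push eW).obj (EtCoh.const _ (ZMod m))) ?_ ?_ ?_ ?_ ?_ q hq
  · intro r
    refine TransOff.off m hm0 hV hE hV' hmX b4 ?_ a1 b1 a2 b2 ?_ ?_ hd hJ r
    · intro y
      obtain ⟨C, _, v, t, hv, ⟨x, hx⟩, hC⟩ := a4 (π y)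
      obtain ⟨s, hs⟩ := exists_isEqn (j := g) hC hg
      refine ⟨Scheme.Etale.mk v, s, x, ?_, hs⟩
      change v x = _
      rw [hx, ← Scheme.Hom.comp_apply, ← Scheme.Hom.comp_apply, hE.w]
    · intro Ω _ _ ζ
      have h1 := card_stalk_one m hm0 e g a3 (ζ ≫ π)
      rw [Category.assoc, hE.w] at h1
      exact h1
    · intro Ω _ _ ζ
      exact card_stalk_one m hm0 e' g' b3 ζ
  · obtain ⟨e0⟩ := nonempty_pull_rpush hU R 0
    have h1 : IsIso ((EtCoh.pullPushAdj j₂).unit.app (EtCoh.mu W m)) := c1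
    exact ⟨e0 ≪≫ (Groth.Agent.Sga4h.PushDer.rpushZeroIso j₂).app R ≪≫
      (EtCoh.push j₂).mapIso (eR ≪≫ (Sga5.H848.PullMu.pullMuIso j₂ m hmW).symm) ≪≫
      (asIso ((EtCoh.pullPushAdj j₂).unit.app (EtCoh.mu W m))).symm ≪≫ eWW.symm⟩
  · obtain ⟨e0⟩ := nonempty_pull_rpush hU R 1
    obtain ⟨e1⟩ := c3
    exact ⟨e0 ≪≫ (EtCoh.Rpush j₂ 1).mapIso eR ≪≫ e1⟩
  · intro r hr
    obtain ⟨e0⟩ := nonempty_pull_rpush hU R r
    exact (c2 r hr).of_iso (e0 ≪≫ (EtCoh.Rpush j₂ r).mapIso eR)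
  · intro b hb
    exact Sga5.HcConst2.subsingleton_H_extZero_zmod L f J (M + 2) m hm b hb
  · intro b hb
    have hfin : IsFinite e := inferInstance
    have haff : IsAffine (pullback e J) := isAffine_of_isAffineHom eW
    obtain ⟨e0⟩ := Groth.Agent.S0653.result e J J' eW (IsPullback.of_hasPullback e J)
      (EtCoh.const _ (ZMod m))
    refine EtpbcA.CdEtLeray.H_subsingleton_of_iso e0 b (subsingleton_H_push e _ b ?_)
    exact Sga5.HcConst2.subsingleton_H_extZero_zmod L (e ≫ f) J' (M + 1) m hm b (by omega)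

end Main

end K721.TransFinal
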