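import Groth.Agent.EtCoh.K721.KumRes
import Groth.Agent.Sga4h.H926.Main

/-!
# Order of the Kummer class of a divisor restricted to a transversal subscheme

`e : E ⟶ X`, `i : Y ⟶ X` closed immersions, `E' = E ×_X Y`.  If a local equation of `E` has an `n`-th root of its
`k`-th power on `Y ∖ E'` near a point of `E'`, and `E' ⊂ Y` is a smooth divisor, then `n ∣ k`.
-/

set_option autoImplicit false
universe u

open CategoryTheory CategoryTheory.Limits AlgebraicGeometry Opposite CategoryTheory.Abelian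

namespace K721.TransGeo

open Groth.Agent Groth.Agent.Sga4B.RpushSec930 Groth.Agent.CurvesA Groth.Agent.Sga4h.H926.KumClass
  Groth.Agent.Sga4h.H926.Chart Groth.Agent.Sga4h.H926.LocEq K721.KumRes

/-- Two equations of the same closed subscheme differ by a unit. -/
theorem exists_unit {E Y : Scheme.{u}} {e : E ⟶ Y} {C : Type u} [CommRing C] {v : Spec (CommRingCat.of C) ⟶ Y}
    {t τ : C} (h : IsChart e C v t)
    {b : Spec (CommRingCat.of (C ⧸ Ideal.span {τ})) ⟶ E}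
    (hb : IsPullback b (Spec.map (CommRingCat.ofHom (Ideal.Quotient.mk (Ideal.span {τ})))) e v) :
    ∃ a : Cˣ, (a : C) * t = τ := by
  have hn := h.mem_nonZeroDivisors
  obtain ⟨A, _, φ, b', hφ, -, hb'⟩ := h
  obtain ⟨a, ha⟩ := Ideal.mem_span_singleton'.1 (mem_span_of_isPullback hb' hb)
  obtain ⟨c, hc⟩ := Ideal.mem_span_singleton'.1 (mem_span_of_isPullback hb hb')
  have h1 : c * a = 1 := by
    rw [mem_nonZeroDivisors_iff_right] at hn
    have h2 : (c * a - 1) * t = 0 := by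
      rw [sub_mul, one_mul, mul_assoc, ha, hc, sub_self]
    exact sub_eq_zero.1 (hn _ h2)
  exact ⟨⟨a, c, by rw [mul_comm]; exact h1, h1⟩, ha⟩

/-- The section attached to a chart. -/
theorem exists_isEqn' {E Y V' : Scheme.{u}} {e : E ⟶ Y} {j : V' ⟶ Y} {C : Type u} [CommRing C]
    {v : Spec (CommRingCat.of C) ⟶ Y} {t : C} [Etale v]
    (h : IsChart e C v t) (hU : Set.range j = (Set.range e)ᶜ) :
    ∃ s : EtCoh.sect (EtCoh.Gm V') ((EtCoh.bc j).obj (Scheme.Etale.mk v)),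
      IsEqn e j (Scheme.Etale.mk v) s ∧
      (MuConst.unitOf s : Γ(((EtCoh.bc j).obj (Scheme.Etale.mk v)).left, ⊤)) =
        (pullback.fst v j).appTop.hom ((Scheme.ΓSpecIso (CommRingCat.of C)).inv.hom t) := by
  have hu := h.isUnit hU (pullback.fst v j) (pullback.snd v j) pullback.condition
  refine ⟨MuConst.ofUnit hu.unit, ⟨(Scheme.ΓSpecIso (CommRingCat.of C)).inv.hom t, rfl, ?_⟩, rfl⟩
  intro C' _ g hg
  exact isChart_etale h C' g hg

variable {X Y E E' V V' : Scheme.{u}} {e : E ⟶ X} {i : Y ⟶ X} {g : V ⟶ X} {π : E' ⟶ E} {e' : E' ⟶ Y}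
  {κ : V' ⟶ V} {g' : V' ⟶ Y}

theorem cmp_cond (w : κ ≫ g = g' ≫ i) (W : X.Etale) (D : Y.Etale) (ρ : D.left ⟶ W.left)
    (hρ : ρ ≫ W.hom = D.hom ≫ i) :
    (pullback.fst D.hom g' ≫ ρ) ≫ W.hom = (pullback.snd D.hom g' ≫ κ) ≫ g :=
  calc (pullback.fst D.hom g' ≫ ρ) ≫ W.hom = pullback.fst D.hom g' ≫ (ρ ≫ W.hom) := Category.assoc _ _ _
    _ = pullback.fst D.hom g' ≫ (D.hom ≫ i) := congrArg (fun l => pullback.fst D.hom g' ≫ l) hρ
    _ = (pullback.fst D.hom g' ≫ D.hom) ≫ i := (Category.assoc _ _ _).symm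
    _ = (pullback.snd D.hom g' ≫ g') ≫ i := congrArg (fun l => l ≫ i) pullback.condition
    _ = pullback.snd D.hom g' ≫ (g' ≫ i) := Category.assoc _ _ _
    _ = pullback.snd D.hom g' ≫ (κ ≫ g) := congrArg (fun l => pullback.snd D.hom g' ≫ l) w.symm
    _ = (pullback.snd D.hom g' ≫ κ) ≫ g := (Category.assoc _ _ _).symm

/-- The comparison map `D ×_Y V' ⟶ (W ×_X V) ×_V V'`. -/
noncomputable def cmpMap (w : κ ≫ g = g' ≫ i) (W : X.Etale) (D : Y.Etale) (ρ : D.left ⟶ W.left)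
    (hρ : ρ ≫ W.hom = D.hom ≫ i) :
    (EtCoh.bc g').obj D ⟶ (EtCoh.bc κ).obj ((EtCoh.bc g).obj W) :=
  MorphismProperty.Over.homMk
    (pullback.lift (pullback.lift (pullback.fst D.hom g' ≫ ρ) (pullback.snd D.hom g' ≫ κ)
      (cmp_cond w W D ρ hρ))
      (pullback.snd D.hom g') (pullback.lift_snd _ _ _)) (pullback.lift_snd _ _ _)

theorem cmpMap_fst (w : κ ≫ g = g' ≫ i) (W : X.Etale) (D : Y.Etale) (ρ : D.left ⟶ W.left)
    (hρ : ρ ≫ W.hom = D.hom ≫ i) :
    (cmpMap w W D ρ hρ).left ≫ pullback.fst ((EtCoh.bc g).obj W).hom κ ≫ pullback.fst W.hom g =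
      pullback.fst D.hom g' ≫ ρ := by
  have h1 : (cmpMap w W D ρ hρ).left ≫ pullback.fst ((EtCoh.bc g).obj W).hom κ =
      pullback.lift (pullback.fst D.hom g' ≫ ρ) (pullback.snd D.hom g' ≫ κ)
      (cmp_cond w W D ρ hρ) := pullback.lift_fst _ _ _
  rw [reassoc_of% h1]
  exact pullback.lift_fst _ _ _

theorem unitOf_zsmul {X : Scheme.{u}} {U : X.Etale} (s : EtCoh.sect (EtCoh.Gm X) U) (m : ℤ) :
    MuConst.unitOf (m • s) = MuConst.unitOf s ^ m := by
  obtain ⟨m, rfl | rfl⟩ := m.eq_nat_or_neg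
  · rw [natCast_zsmul, zpow_natCast, MuConst.unitOf_nsmul]
  · rw [neg_smul, natCast_zsmul, zpow_neg, zpow_natCast, ← MuConst.unitOf_nsmul]
    rfl

variable (n : ℕ) (hn : IsUnit (n : Γ(Y, ⊤)))

/-- The key computation, on an affine chart. -/
theorem dvd_of_chart [IsClosedImmersion e'] [IsOpenImmersion g'] (w : κ ≫ g = g' ≫ i)
    (hE : IsPullback π e' e i) (hV' : Set.range g' = (Set.range e')ᶜ) (hn : IsUnit (n : Γ(Y, ⊤)))
    (hch : ∀ y : E', ∃ (C : Type u) (_ : CommRing C) (v : Spec (CommRingCat.of C) ⟶ Y) (t : C),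
      Etale v ∧ e' y ∈ Set.range v ∧ IsChart e' C v t)
    {C : Type u} [CommRing C] {v : Spec (CommRingCat.of C) ⟶ X} [Etale v] {t : C}
    {b : Spec (CommRingCat.of (C ⧸ Ideal.span {t})) ⟶ E}
    (hb : IsPullback b (Spec.map (CommRingCat.ofHom (Ideal.Quotient.mk (Ideal.span {t})))) e v)
    (s : EtCoh.sect (EtCoh.Gm V) ((EtCoh.bc g).obj (Scheme.Etale.mk v)))
    (hs : (MuConst.unitOf s : Γ(((EtCoh.bc g).obj (Scheme.Etale.mk v)).left, ⊤)) =
        (pullback.fst v g).appTop.hom ((Scheme.ΓSpecIso (CommRingCat.of C)).inv.hom t))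
    (c : Spec (CommRingCat.of C)) (y : E') (hy : i (e' y) = v c) (k : ℤ)
    (r : EtCoh.sect (EtCoh.Gm V') ((EtCoh.bc κ).obj ((EtCoh.bc g).obj (Scheme.Etale.mk v))))
    (hr : n • r = (gm κ).hom.app (op ((EtCoh.bc g).obj (Scheme.Etale.mk v))) (k • s)) : (n : ℤ) ∣ k := by
  obtain ⟨C₁, _, v₁, t₁, hv₁, ⟨c₁, hc₁⟩, h₁⟩ := hch y
  -- a common refinement
  obtain ⟨z₁, hz₁, hz₁'⟩ := Scheme.Pullback.exists_preimage_pullback (f := v) (g := i) c (e' y) hy.symm
  obtain ⟨z₂, hz₂, hz₂'⟩ := Scheme.Pullback.exists_preimage_pullback (f := pullback.snd v i) (g := v₁)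
    z₁ c₁ (by rw [hc₁, hz₁'])
  obtain ⟨D, _, q, hq, ⟨d, hd⟩⟩ := exists_affine (pullback (pullback.snd v i) v₁) z₂
  let ρ : Spec (CommRingCat.of D) ⟶ Spec (CommRingCat.of C) :=
    q ≫ pullback.fst (pullback.snd v i) v₁ ≫ pullback.fst v i
  let vD : Spec (CommRingCat.of D) ⟶ Y := q ≫ pullback.fst (pullback.snd v i) v₁ ≫ pullback.snd v i
  have hvD : Etale vD := by
    have h1 : Etale (pullback.fst (pullback.snd v i) v₁) := inferInstance
    have h2 : Etale (pullback.snd v i) := inferInstance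
    infer_instance
  have hρ : ρ ≫ v = vD ≫ i := by
    change (q ≫ pullback.fst (pullback.snd v i) v₁ ≫ pullback.fst v i) ≫ v =
      (q ≫ pullback.fst (pullback.snd v i) v₁ ≫ pullback.snd v i) ≫ i
    rw [Category.assoc, Category.assoc, Category.assoc, Category.assoc, pullback.condition]
  let q₁ : Spec (CommRingCat.of D) ⟶ Spec (CommRingCat.of C₁) := q ≫ pullback.snd (pullback.snd v i) v₁
  have hq₁ : q₁ ≫ v₁ = vD := by
    change (q ≫ pullback.snd (pullback.snd v i) v₁) ≫ v₁ = q ≫ pullback.fst (pullback.snd v i) v₁ ≫ pullback.snd v i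
    rw [Category.assoc, pullback.condition]
  have hq₁e : Etale q₁ := by
    have h1 : Etale (pullback.snd (pullback.snd v i) v₁) := inferInstance
    infer_instance
  obtain ⟨α, hα⟩ : ∃ α : CommRingCat.of C ⟶ CommRingCat.of D, ρ = Spec.map α :=
    ⟨Spec.preimage ρ, (Spec.map_preimage ρ).symm⟩
  -- the chart on `Y`
  obtain ⟨t', ht'⟩ : ∃ t' : D, IsChart e' D vD t' := ⟨_, hq₁ ▸ isChart_etale h₁ D q₁ hq₁e⟩
  -- the equation of `E` restricted to `Y`
  obtain ⟨β, hβ⟩ := isPullback_quotient α.hom t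
  have hβ' : IsPullback (β ≫ b) (Spec.map (CommRingCat.ofHom (Ideal.Quotient.mk (Ideal.span {α.hom t})))) e
      (vD ≫ i) := by
    have h1 := hβ.paste_horiz hb
    have h2 : Spec.map (CommRingCat.ofHom α.hom) ≫ v = vD ≫ i := by
      rw [← hρ, hα]
      rfl
    rw [h2] at h1
    exact h1
  obtain ⟨a, ha⟩ := exists_unit ht' (IsPullback.of_right' hβ' hE)
  obtain ⟨s', hs', hs't⟩ := exists_isEqn' (j := g') ht' hV'
  let WD : Y.Etale := Scheme.Etale.mk vD
  let WX : X.Etale := Scheme.Etale.mk v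
  let m := cmpMap (κ := κ) (g := g) (g' := g') (i := i) w WX WD ρ hρ
  let a' : (Γ(WD.left, ⊤))ˣ := Units.map (Scheme.ΓSpecIso (CommRingCat.of D)).inv.hom.toMonoidHom a
  have key : (EtCoh.Gm V').obj.map m.op ((gm κ).hom.app (op ((EtCoh.bc g).obj WX)) s) =
      rho g' WD a' + s' := by
    apply MuConst.unitOf_injective
    rw [MuConst.unitOf_add]
    apply Units.ext
    rw [Units.val_mul, MuConst.unitOf_map, unitOf_rho, hs't]
    have h1 : (MuConst.unitOf (X := V') (U := (EtCoh.bc κ).obj ((EtCoh.bc g).obj WX))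
        ((gm κ).hom.app (op ((EtCoh.bc g).obj WX)) s) :
          Γ(((EtCoh.bc κ).obj ((EtCoh.bc g).obj WX)).left, ⊤)) =
        (Dix.GmPush.proj κ ((EtCoh.bc g).obj WX)).appTop.hom
          (MuConst.unitOf s : Γ(((EtCoh.bc g).obj WX).left, ⊤)) := rfl
    rw [h1, hs]
    have h2 := cmpMap_fst w WX WD ρ hρ
    have h3 := congrArg Scheme.Hom.appTop h2
    rw [Scheme.Hom.comp_appTop, Scheme.Hom.comp_appTop, Scheme.Hom.comp_appTop] at h3
    have h4 := congrArg (fun l => l.hom ((Scheme.ΓSpecIso (CommRingCat.of C)).inv.hom t)) h3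
    refine h4.trans ?_
    have h5 : ρ.appTop.hom ((Scheme.ΓSpecIso (CommRingCat.of C)).inv.hom t) =
        (Scheme.ΓSpecIso (CommRingCat.of D)).inv.hom (α.hom t) := by
      rw [hα]
      exact (congrArg (fun l => l.hom t) (Scheme.ΓSpecIso_inv_naturality α)).symm
    have h6 : (pullback.fst WD.hom g').appTop.hom (ρ.appTop.hom ((Scheme.ΓSpecIso (CommRingCat.of C)).inv.hom t)) =
        (pullback.fst WD.hom g').appTop.hom ((Scheme.ΓSpecIso (CommRingCat.of D)).inv.hom (a : D)) *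
        (pullback.fst WD.hom g').appTop.hom ((Scheme.ΓSpecIso (CommRingCat.of D)).inv.hom t') := by
      rw [h5, ← ha, map_mul]
      exact map_mul (pullback.fst WD.hom g' : ((EtCoh.bc g').obj WD).left ⟶ WD.left).appTop.hom _ _
    exact h6
  have hnV : IsUnit (n : Γ(V', ⊤)) := by
    have h1 := hn.map g'.appTop.hom
    rwa [map_natCast] at h1
  have hE' : Epi (EtCoh.powMap V' n) := Groth.Agent.S0108.result V' n hnV
  have hk : kap g' n hE' WD (k • s') = 0 := by
    have h1 : (EtCoh.Gm V').obj.map m.op (n • r) =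
        k • ((EtCoh.Gm V').obj.map m.op ((gm κ).hom.app (op ((EtCoh.bc g).obj WX)) s)) := by
      have h0 : (gm κ).hom.app (op ((EtCoh.bc g).obj WX)) (k • s) =
        k • (gm κ).hom.app (op ((EtCoh.bc g).obj WX)) s := map_zsmul _ _ _
      have h0' := congrArg ((EtCoh.Gm V').obj.map m.op) (hr.trans h0)
      exact h0'.trans (map_zsmul _ _ _)
    rw [key, map_nsmul, smul_add] at h1
    have h2 : k • s' = n • ((EtCoh.Gm V').obj.map m.op r) - k • rho g' WD a' := by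
      rw [h1]
      abel
    rw [h2, map_sub, kap_nsmul, map_zsmul, kap_rho g' n hE' hn, smul_zero, sub_zero]
  refine hs'.dvd_of_kap_eq_zero n hE' hV' d ?_ k hk
  change vD d ∈ _
  rw [← hq₁, Scheme.Hom.comp_apply]
  have h7 : q₁ d = c₁ := by
    change (q ≫ pullback.snd (pullback.snd v i) v₁) d = c₁
    rw [Scheme.Hom.comp_apply, hd]
    exact hz₂'
  rw [h7, hc₁]
  exact ⟨y, rfl⟩

end K721.TransGeo
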