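import Groth.Agent.EtCoh.K721.TransZero
import Groth.Agent.EtpbcB.RDerLES
import Groth.Agent.Sga4h.H15.TwoChart

/-!
# `R^q g_* (j_! μ_n)` vanishes at the points of a transversal subscheme `Y`
-/

set_option autoImplicit false
universe v u v' u' v'' u''

open CategoryTheory CategoryTheory.Limits AlgebraicGeometry Opposite CategoryTheory.Abelian

namespace K721.TransOff

open Groth.Agent

section Abstract

variable {C : Type u} [Category.{v} C] [Abelian C] [HasInjectiveResolutions C]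
  {D : Type u'} [Category.{v'} D] [Abelian D] (G : C ⥤ D) [G.Additive] [PreservesFiniteLimits G]
  {B : Type u''} [Category.{v''} B] [Abelian B] (T : D ⥤ B) [T.Additive] [PreservesFiniteLimits T]
  [PreservesFiniteColimits T]

/-- If an exact functor `T` makes all `R^n G (S.g)` isomorphisms then it kills all `R^n G (S.X₁)`. -/
theorem isZero_of_isIso {S : ShortComplex C} (hS : S.ShortExact)
    (h : ∀ n, IsIso (T.map ((G.rightDerived n).map S.g))) (n : ℕ) :
    IsZero (T.obj ((G.rightDerived n).obj S.X₁)) := by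
  have hTh : T.PreservesHomology := inferInstance
  have hz : ∀ n, T.map ((G.rightDerived n).map S.f) = 0 := fun n => by
    have := h n
    rw [← cancel_mono (T.map ((G.rightDerived n).map S.g)), ← T.map_comp,
      Groth.Agent.EtpbcB.RDerLES.map_comp_zero G (S := S) n, T.map_zero, zero_comp]
  rcases n with _ | n
  · have h1 : Mono ((G.rightDerived 0).map S.f) := by
      have h2 : Mono S.f := hS.mono_f
      have h3 : Mono (G.map S.f) := inferInstance
      have h4 : G.map S.f ≫ G.toRightDerivedZero.app S.X₂ =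
        G.toRightDerivedZero.app S.X₁ ≫ (G.rightDerived 0).map S.f := G.toRightDerivedZero.naturality S.f
      have h5 : (G.rightDerived 0).map S.f = inv (G.toRightDerivedZero.app S.X₁) ≫ G.map S.f ≫
        G.toRightDerivedZero.app S.X₂ := by rw [h4, IsIso.inv_hom_id_assoc]
      rw [h5]
      infer_instance
    have h6 : Mono (T.map ((G.rightDerived 0).map S.f)) := inferInstance
    rw [hz 0] at h6
    exact IsZero.of_mono_zero _ (T.obj ((G.rightDerived 0).obj S.X₂))
  · have h1 := (Groth.Agent.EtpbcB.RDerLES.exact₁ G hS n).map T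
    refine h1.isZero_of_both_zeros ?_ (hz (n + 1))
    have := h n
    change T.map (Groth.Agent.EtpbcB.RDerLES.δ G hS n) = 0
    rw [← cancel_epi (T.map ((G.rightDerived n).map S.g)), ← T.map_comp,
      Groth.Agent.EtpbcB.RDerLES.comp_δ G hS n, T.map_zero, comp_zero]

end Abstract

open Groth.Agent.Sga4B.RpushSec930 Groth.Agent.CurvesA Groth.Agent.Sga4h.H926.KumClass
  Groth.Agent.Sga4h.H926.Chart Groth.Agent.Sga4h.H926.LocEq K721.KumRes K721.TransGeo
  K721.TransOne K721.TransZero Groth.Agent.EtpbcA.StalkTools Groth.Agent.Sga4h.H15.TwoChart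

variable {X Y E E' V V' U W₀ : Scheme.{u}} {e : E ⟶ X} {i : Y ⟶ X} {g : V ⟶ X} {π : E' ⟶ E} {e' : E' ⟶ Y}
  {κ : V' ⟶ V} {g' : V' ⟶ Y} {j : U ⟶ V} {J : W₀ ⟶ X} (n : ℕ)
  [IsClosedImmersion e'] [IsOpenImmersion g'] [IsOpenImmersion g] [IsClosedImmersion κ] [IsClosedImmersion i]
  [IsOpenImmersion j]

/-- The main local statement. -/
theorem off (hn0 : n ≠ 0) (hV : IsPullback κ g' g i) (hE : IsPullback π e' e i)
    (hV' : Set.range g' = (Set.range e')ᶜ) (hn : IsUnit (n : Γ(X, ⊤)))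
    (hch : ∀ y : E', ∃ (C : Type u) (_ : CommRing C) (v : Spec (CommRingCat.of C) ⟶ Y) (t : C),
      Etale v ∧ e' y ∈ Set.range v ∧ IsChart e' C v t)
    (hch' : ∀ y : E', ∃ (W : X.Etale) (s : EtCoh.sect (EtCoh.Gm V) ((EtCoh.bc g).obj W)) (x : W.left),
      W.hom x = i (e' y) ∧ IsEqn e g W s)
    (h1 : IsIso ((EtCoh.pullPushAdj g).unit.app (EtCoh.mu X n)))
    (h2 : IsIso ((EtCoh.pullPushAdj g').unit.app (EtCoh.mu Y n)))
    (hz1 : ∀ q, 2 ≤ q → IsZero ((EtCoh.Rpush g q).obj (EtCoh.mu V n)))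
    (hz2 : ∀ q, 2 ≤ q → IsZero ((EtCoh.Rpush g' q).obj (EtCoh.mu V' n)))
    (hc1 : ∀ {Ω : Type u} [Field Ω] [IsSepClosed Ω] (ζ : Spec (CommRingCat.of Ω) ⟶ E'),
      Nat.card ((EtCoh.stalk (ζ ≫ e' ≫ i)).obj ((EtCoh.Rpush g 1).obj (EtCoh.mu V n))) = n)
    (hc2 : ∀ {Ω : Type u} [Field Ω] [IsSepClosed Ω] (ζ : Spec (CommRingCat.of Ω) ⟶ E'),
      Nat.card ((EtCoh.stalk (ζ ≫ e')).obj ((EtCoh.Rpush g' 1).obj (EtCoh.mu V' n))) = n)
    (hd : IsCompl (Set.range κ) (Set.range j)) (hJ : Set.range J = (Set.range i)ᶜ) (q : ℕ) :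
    Off J ((EtCoh.Rpush g q).obj ((EtShriek.extZero j).obj ((EtShriek.restrAlong j).obj (EtCoh.mu V n)))) := by
  intro Ω _ _ ξ hξ
  have hξ' : ξ default ∈ Set.range i := by
    rw [hJ] at hξ
    exact not_not.1 hξ
  obtain ⟨ζ, rfl⟩ := Groth.Agent.Etcore.OpenClosed.exists_lift_closedImmersion i ξ hξ'
  have hnV : IsUnit (n : Γ(V, ⊤)) := by
    have h1 := hn.map g.appTop.hom
    rwa [map_natCast] at h1
  by_cases hζ : ζ default ∈ Set.range e'
  · obtain ⟨ζ, rfl⟩ := Groth.Agent.Etcore.OpenClosed.exists_lift_closedImmersion e' ζ hζ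
    rw [Category.assoc]
    refine isZero_of_isIso (EtCoh.push g) (EtCoh.stalk (ζ ≫ e' ≫ i))
      (Groth.Agent.Etcore.OpenClosed.shortExact κ j hd (EtCoh.mu V n)) ?_ q
    intro m
    have hmu := Sga5.H848.PullMu.isIso_pullMu κ n hnV
    have hmm : ((EtCoh.push g).rightDerived m).map (mm κ n) =
        ((EtCoh.push g).rightDerived m).map ((EtCoh.pullPushAdj κ).unit.app (EtCoh.mu V n)) ≫
          ((EtCoh.push g).rightDerived m).map ((EtCoh.push κ).map (Etcore.Kappa228.pullMu n κ)) := by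
      rw [← Functor.map_comp]
      congr 1
    have key : IsIso ((EtCoh.stalk (ζ ≫ e' ≫ i)).map (((EtCoh.push g).rightDerived m).map (mm κ n))) := by
      rcases m with _ | m
      · have h3 := bijective_stalk_zero n hn0 hV.w hn h1 h2 (ζ ≫ e')
        rw [Category.assoc] at h3
        have h4 := (ConcreteCategory.isIso_iff_bijective _).2 h3
        exact (NatIso.isIso_map_iff (Functor.isoWhiskerRight (Sga4h.PushDer.rpushZeroIso g)
            (EtCoh.stalk (ζ ≫ e' ≫ i))) (mm κ n)).2 h4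
      · rcases m with _ | m
        · obtain ⟨W, s, x, hx, hs⟩ := hch' (ζ default)
          obtain ⟨l, hl, -⟩ := Scheme.exists_fac_of_etale_of_isSepClosed W.hom (ζ ≫ e' ≫ i) x (by
            rw [hx]
            simp only [Scheme.Hom.comp_apply])
          have h3 := bijective_stalk_one n hn0 hV.w hE hV' hn hch (Groth.Agent.S0108.result V n hnV) ζ hs
            (Over.homMk l hl) (hc1 ζ) (hc2 ζ)
          exact (ConcreteCategory.isIso_iff_bijective _).2 h3
        · have hs := hz1 (m + 2) (by omega)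
          have ht : IsZero ((EtCoh.Rpush g (m + 2)).obj ((EtCoh.push κ).obj (EtCoh.mu V' n))) := by
            obtain ⟨ε⟩ := nonempty_Rpush_target (g := g) (κ := κ) hV.w (EtCoh.mu V' n) (m + 2)
            exact ((EtCoh.push i).map_isZero (hz2 (m + 2) (by omega))).of_iso ε
          have h5 : IsIso ((EtCoh.Rpush g (m + 2)).map (mm κ n)) :=
            ⟨0, hs.eq_of_src _ _, ht.eq_of_src _ _⟩
          exact inferInstanceAs (IsIso ((EtCoh.stalk (ζ ≫ e' ≫ i)).map ((EtCoh.Rpush g (m + 2)).map (mm κ n))))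
    rw [hmm, Functor.map_comp] at key
    exact IsIso.of_isIso_comp_right _ ((EtCoh.stalk (ζ ≫ e' ≫ i)).map (((EtCoh.push g).rightDerived m).map
      ((EtCoh.push κ).map (Etcore.Kappa228.pullMu n κ))))
  · have hζ' : ζ default ∈ Set.range g' := by
      rw [hV']
      exact hζ
    have hr : Set.range ζ ⊆ Set.range g' := by
      rintro _ ⟨x, rfl⟩
      obtain rfl : x = default := Subsingleton.elim _ _
      exact hζ'
    obtain ⟨η, rfl⟩ : ∃ η, η ≫ g' = ζ := ⟨IsOpenImmersion.lift g' ζ hr, IsOpenImmersion.lift_fac g' ζ hr⟩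
    have h3 : (η ≫ g') ≫ i = (η ≫ κ) ≫ g := by rw [Category.assoc, Category.assoc, hV.w]
    rw [h3]
    refine isZero_stalk_comp g (η ≫ κ) ?_
    rcases q with _ | q
    · let e0 := (EtCoh.pull g).mapIso ((Sga4h.PushDer.rpushZeroIso g).app ((EtShriek.extZero j).obj
        ((EtShriek.restrAlong j).obj (EtCoh.mu V n)))) ≪≫ asIso ((EtCoh.pullPushAdj g).counit.app _)
      refine IsZero.of_iso ?_ ((EtCoh.stalk (η ≫ κ)).mapIso e0)
      refine Groth.Agent.Etcore.ShriekUnique.isZero_stalk_extZero' j (η ≫ κ) ?_ _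
      intro h4
      have h5 : (η ≫ κ) default ∈ Set.range κ := by
        rw [Scheme.Hom.comp_apply]
        exact ⟨_, rfl⟩
      exact Set.disjoint_left.1 hd.disjoint h5 h4
    · exact (EtCoh.stalk (η ≫ κ)).map_isZero (isZero_pull_Rpush g _ q)

end K721.TransOff
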