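import Groth.Agent.EtCoh.K721.TransGeo
import Groth.Agent.Sga4h.H926.Crit
import Groth.Agent.S0070
import Groth.Agent.Etbase.PushExact
import Groth.Agent.Sga4h.PushDer

/-!
# `R^1 g_* μ_n → R^1 g_* κ_* μ_n` is bijective at the points of `E ∩ Y`
-/

set_option autoImplicit false
universe u

open CategoryTheory CategoryTheory.Limits AlgebraicGeometry Opposite CategoryTheory.Abelian

namespace K721.TransOne

open Groth.Agent Groth.Agent.Sga4B.RpushSec930 Groth.Agent.CurvesA Groth.Agent.Sga4h.H926.KumClass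
  Groth.Agent.Sga4h.H926.Chart Groth.Agent.Sga4h.H926.LocEq K721.KumRes K721.TransGeo
  Groth.Agent.EtpbcA.StalkTools

section General

variable {X Y V V' : Scheme.{u}} {i : Y ⟶ X} {g : V ⟶ X} {κ : V' ⟶ V} {g' : V' ⟶ Y}

/-- `R^q π_*(i_* F) = R^q (i ≫ π)_* F` for a closed immersion `i`. -/
theorem nonempty_Rpush_closed {Z P X : Scheme.{u}} (i : Z ⟶ P) [IsClosedImmersion i] (π : P ⟶ X)
    (F : EtCoh.Ab Z) (q : ℕ) :
    Nonempty ((EtCoh.Rpush π q).obj ((EtCoh.push i).obj F) ≅ (EtCoh.Rpush (i ≫ π) q).obj F) := by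
  have h1 := Groth.Agent.Sga5.ClosedPush.preservesFiniteColimits_push i
  refine ⟨Groth.Agent.Sga4h.PushDer.rpushCompIso i π F (fun p hp => ?_) q⟩
  obtain ⟨p, rfl⟩ : ∃ p', p = p' + 1 := ⟨p - 1, by omega⟩
  exact Groth.Agent.Etbase.PushExact.isZero_rightDerived_of_exact (EtCoh.push i) F p

/-- `R^q g_* (κ_* F) ≅ i_* R^q g'_* F`. -/
theorem nonempty_Rpush_target [IsClosedImmersion κ] [IsClosedImmersion i] (w : κ ≫ g = g' ≫ i)
    (F : EtCoh.Ab V') (q : ℕ) :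
    Nonempty ((EtCoh.Rpush g q).obj ((EtCoh.push κ).obj F) ≅ (EtCoh.push i).obj ((EtCoh.Rpush g' q).obj F)) := by
  obtain ⟨e1⟩ := nonempty_Rpush_closed κ g F q
  have h1 := Groth.Agent.Sga5.ClosedPush.preservesFiniteColimits_push i
  exact ⟨e1 ≪≫ (Groth.Agent.Sga4h.PushDer.rpushCongr w q).app F ≪≫
    Groth.Agent.Sga4h.PushDer.rpushExactIso g' i F q⟩

/-- The stalk of `R^q g_* (κ_* F)` at a point of `Y`. -/
theorem nonempty_stalk_target [IsClosedImmersion κ] [IsClosedImmersion i] (w : κ ≫ g = g' ≫ i)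
    (F : EtCoh.Ab V') (q : ℕ) {Ω : Type u} [Field Ω] [IsSepClosed Ω] (ζ : Spec (CommRingCat.of Ω) ⟶ Y) :
    Nonempty ((EtCoh.stalk (ζ ≫ i)).obj ((EtCoh.Rpush g q).obj ((EtCoh.push κ).obj F)) ≅
      (EtCoh.stalk ζ).obj ((EtCoh.Rpush g' q).obj F)) := by
  obtain ⟨e1⟩ := nonempty_Rpush_target (g := g) (κ := κ) w F q
  obtain ⟨e2⟩ := Groth.Agent.S0070.result i ((EtCoh.Rpush g' q).obj F) ζ
  exact ⟨(EtCoh.stalk (ζ ≫ i)).mapIso e1 ≪≫ e2⟩

end General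

section One

variable {X Y E E' V V' : Scheme.{u}} {e : E ⟶ X} {i : Y ⟶ X} {g : V ⟶ X} {π : E' ⟶ E} {e' : E' ⟶ Y}
  {κ : V' ⟶ V} {g' : V' ⟶ Y} (n : ℕ) (hn0 : n ≠ 0)
  [IsClosedImmersion e'] [IsOpenImmersion g'] [IsOpenImmersion g] [IsClosedImmersion κ] [IsClosedImmersion i]
  (w : κ ≫ g = g' ≫ i)
  (hE : IsPullback π e' e i) (hV' : Set.range g' = (Set.range e')ᶜ) (hn : IsUnit (n : Γ(X, ⊤)))
  (hch : ∀ y : E', ∃ (C : Type u) (_ : CommRing C) (v : Spec (CommRingCat.of C) ⟶ Y) (t : C),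
    Etale v ∧ e' y ∈ Set.range v ∧ IsChart e' C v t)
  (h : Epi (EtCoh.powMap V n))

include w hE hV' hn hch

/-- If `k` times the Kummer class of a local equation dies in the stalk of `R^1 g_* κ_* μ_n` at a point of `E'` then
`n ∣ k`. -/
theorem dvd_of_stalk {Ω : Type u} [Field Ω] [IsSepClosed Ω] (ζ : Spec (CommRingCat.of Ω) ⟶ E')
    {W : X.Etale} {s : EtCoh.sect (EtCoh.Gm V) ((EtCoh.bc g).obj W)} (hs : IsEqn e g W s)
    (a : (Scheme.pointSmallEtale (ζ ≫ e' ≫ i)).fiber.obj W) (k : ℤ)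
    (hk : (EtCoh.stalk (ζ ≫ e' ≫ i)).map ((EtCoh.Rpush g 1).map (mm κ n))
      (k • germ (ζ ≫ e' ≫ i) a (kap g n h W s)) = 0) : (n : ℤ) ∣ k := by
  have hnY : IsUnit (n : Γ(Y, ⊤)) := by
    have h1 := hn.map i.appTop.hom
    rwa [map_natCast] at h1
  have hnV' : IsUnit (n : Γ(V', ⊤)) := by
    have h1 := hnY.map g'.appTop.hom
    rwa [map_natCast] at h1
  have h' : Epi (EtCoh.powMap V' n) := Groth.Agent.S0108.result V' n hnV'
  -- descend to a section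
  have h1 : k • germ (ζ ≫ e' ≫ i) a (kap g n h W s) = germ (ζ ≫ e' ≫ i) a (kap g n h W (k • s)) := by
    rw [map_zsmul]
    exact (map_zsmul ((Scheme.pointSmallEtale (ζ ≫ e' ≫ i)).toPresheafFiber W a
      ((EtCoh.Rpush g 1).obj (EtCoh.mu V n)).obj).hom k _).symm
  rw [h1, stalk_map_germ] at hk
  have h2 : germ (ζ ≫ e' ≫ i) a (((EtCoh.Rpush g 1).map (mm κ n)).hom.app (op W) (kap g n h W (k • s))) =
      germ (ζ ≫ e' ≫ i) a (0 : EtCoh.sect ((EtCoh.Rpush g 1).obj ((EtCoh.push κ).obj (EtCoh.mu V' n))) W) :=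
    hk.trans (map_zero _).symm
  obtain ⟨W₁, p₁, b, hb, hg⟩ := (germ_eq_iff _ _ _ _).1 h2
  rw [map_zero] at hg
  have h3 : ((EtCoh.Rpush g 1).map (mm κ n)).hom.app (op W₁) (kap g n h W₁
      (k • (EtCoh.Gm V).obj.map ((EtCoh.bc g).map p₁).op s)) = 0 := by
    rw [← hg]
    have h4 := ConcreteCategory.congr_hom (((EtCoh.Rpush g 1).map (mm κ n)).hom.naturality p₁.op)
      (kap g n h W (k • s))
    refine Eq.trans ?_ h4
    have h5 := kap_res g n h p₁ (k • s)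
    rw [map_zsmul ((EtCoh.Gm V).obj.map ((EtCoh.bc g).map p₁).op).hom k s] at h5
    exact congrArg _ h5.symm
  obtain ⟨W₂, p₂, w₂, hw₂, r, hr⟩ := exists_root g κ n h h' W₁ _ h3 (fibPt (ζ ≫ e' ≫ i) b)
  -- restrict to an affine chart
  obtain ⟨t, ht, hC⟩ := (hs.res p₁).res p₂
  obtain ⟨C, _, q, hq, ⟨c, hc⟩⟩ := exists_affine W₂.left w₂
  obtain ⟨A, _, φ, b', hφ, -, hb'⟩ := hC C q inferInstance
  let W₃ : X.Etale := Scheme.Etale.mk (q ≫ W₂.hom)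
  let p₃ : W₃ ⟶ W₂ := MorphismProperty.Over.homMk q rfl
  have hy : i (e' (ζ default)) = (q ≫ W₂.hom) c := by
    have h6 : W₁.hom (fibPt (ζ ≫ e' ≫ i) b) = (ζ ≫ e' ≫ i) default :=
      congrArg (fun (l : Spec (CommRingCat.of Ω) ⟶ X) => l default) (Over.w b)
    have h7 : p₂.left ≫ W₁.hom = W₂.hom := Over.w p₂.hom
    rw [Scheme.Hom.comp_apply, hc, ← h7, Scheme.Hom.comp_apply, hw₂, h6]
    simp only [Scheme.Hom.comp_apply]
  refine dvd_of_chart n w hE hV' hnY hch (C := C) (v := q ≫ W₂.hom) hb'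
    ((EtCoh.Gm V).obj.map ((EtCoh.bc g).map p₃).op ((EtCoh.Gm V).obj.map ((EtCoh.bc g).map p₂).op
      ((EtCoh.Gm V).obj.map ((EtCoh.bc g).map p₁).op s))) ?_ c (ζ default) hy k
    ((EtCoh.Gm V').obj.map ((EtCoh.bc κ).map ((EtCoh.bc g).map p₃)).op r) ?_
  · rw [MuConst.unitOf_map, ht, bc_map_appTop]
    have h8 : (Scheme.ΓSpecIso (CommRingCat.of C)).inv.hom
        ((Scheme.ΓSpecIso (CommRingCat.of C)).hom.hom (q.appTop.hom t)) = q.appTop.hom t :=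
      congr(($((Scheme.ΓSpecIso (CommRingCat.of C)).hom_inv_id)).hom (q.appTop.hom t))
    rw [h8]
    rfl
  · have h9 := congrArg ((EtCoh.Gm V').obj.map ((EtCoh.bc κ).map ((EtCoh.bc g).map p₃)).op) hr
    have h10 := ConcreteCategory.congr_hom ((gm κ).hom.naturality ((EtCoh.bc g).map p₃).op)
      ((EtCoh.Gm V).obj.map ((EtCoh.bc g).map p₂).op (k • (EtCoh.Gm V).obj.map ((EtCoh.bc g).map p₁).op s))
    have h11 := (map_nsmul ((EtCoh.Gm V').obj.map ((EtCoh.bc κ).map ((EtCoh.bc g).map p₃)).op).hom n r).symm.trans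
      (h9.trans h10.symm)
    refine h11.trans (congrArg ((gm κ).hom.app (op ((EtCoh.bc g).obj W₃))).hom ?_)
    have h12 := map_zsmul ((EtCoh.Gm V).obj.map ((EtCoh.bc g).map p₂).op).hom k
      ((EtCoh.Gm V).obj.map ((EtCoh.bc g).map p₁).op s)
    have h13 := map_zsmul ((EtCoh.Gm V).obj.map ((EtCoh.bc g).map p₃).op).hom k
      ((EtCoh.Gm V).obj.map ((EtCoh.bc g).map p₂).op ((EtCoh.Gm V).obj.map ((EtCoh.bc g).map p₁).op s))
    exact (congrArg ((EtCoh.Gm V).obj.map ((EtCoh.bc g).map p₃).op) h12).trans h13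

include hn0 h in
/-- Bijectivity on the stalk of `R^1`. -/
theorem bijective_stalk_one {Ω : Type u} [Field Ω] [IsSepClosed Ω] (ζ : Spec (CommRingCat.of Ω) ⟶ E')
    {W : X.Etale} {s : EtCoh.sect (EtCoh.Gm V) ((EtCoh.bc g).obj W)} (hs : IsEqn e g W s)
    (a : (Scheme.pointSmallEtale (ζ ≫ e' ≫ i)).fiber.obj W)
    (hc1 : Nat.card ((EtCoh.stalk (ζ ≫ e' ≫ i)).obj ((EtCoh.Rpush g 1).obj (EtCoh.mu V n))) = n)
    (hc2 : Nat.card ((EtCoh.stalk (ζ ≫ e')).obj ((EtCoh.Rpush g' 1).obj (EtCoh.mu V' n))) = n) :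
    Function.Bijective ((EtCoh.stalk (ζ ≫ e' ≫ i)).map ((EtCoh.Rpush g 1).map (mm κ n))) := by
  have hfin : Finite ((EtCoh.stalk (ζ ≫ e' ≫ i)).obj ((EtCoh.Rpush g 1).obj (EtCoh.mu V n))) :=
    Nat.finite_of_card_ne_zero (by rw [hc1]; exact hn0)
  obtain ⟨ε⟩ := nonempty_stalk_target (g := g) (κ := κ) w (EtCoh.mu V' n) 1 (ζ ≫ e')
  have hc3 : Nat.card ((EtCoh.stalk (ζ ≫ e' ≫ i)).obj
      ((EtCoh.Rpush g 1).obj ((EtCoh.push κ).obj (EtCoh.mu V' n)))) = n := by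
    have h1 := Nat.card_congr ε.addCommGroupIsoToAddEquiv.toEquiv
    rw [Category.assoc] at h1
    exact h1.trans hc2
  have hfin' : Finite ((EtCoh.stalk (ζ ≫ e' ≫ i)).obj
      ((EtCoh.Rpush g 1).obj ((EtCoh.push κ).obj (EtCoh.mu V' n)))) :=
    Nat.finite_of_card_ne_zero (by rw [hc3]; exact hn0)
  have hinj : Function.Injective ((EtCoh.stalk (ζ ≫ e' ≫ i)).map ((EtCoh.Rpush g 1).map (mm κ n))) := by
    rw [injective_iff_map_eq_zero]
    intro x hx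
    obtain ⟨k, rfl⟩ := Groth.Agent.Sga4h.H926.Crit.exists_zsmul_eq n hn0 hc1
      (germ (ζ ≫ e' ≫ i) a (kap g n h W s)) (fun k hk => by
        refine dvd_of_stalk n w hE hV' hn hch h ζ hs a k ?_
        rw [hk, map_zero]) x
    obtain ⟨c, rfl⟩ := dvd_of_stalk n w hE hV' hn hch h ζ hs a k hx
    have h4 := card_nsmul_eq_zero' (x := germ (ζ ≫ e' ≫ i) a (kap g n h W s))
    rw [hc1] at h4
    rw [mul_comm, mul_smul, natCast_zsmul, h4, smul_zero]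
  exact (Nat.bijective_iff_injective_and_card _).2 ⟨hinj, by rw [hc1, hc3]⟩

end One

end K721.TransOne
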