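import Groth.Agent.EtCoh.K721.TransOne
import Groth.Agent.Sga5.H848.PullMu
import Groth.Agent.Sga4h.H926.MuFLC
import Groth.Agent.Etcore.OpenClosed

/-!
# `g_* μ_n → g_* κ_* μ_n` is bijective at the points of `Y`
-/

set_option autoImplicit false
universe u

open CategoryTheory CategoryTheory.Limits AlgebraicGeometry Opposite CategoryTheory.Abelian

namespace K721.TransZero

open Groth.Agent Groth.Agent.Sga4B.RpushSec930 Groth.Agent.CurvesA
  K721.KumRes K721.TransGeo K721.TransOne Groth.Agent.EtpbcA.StalkTools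

variable {X Y V V' : Scheme.{u}} {i : Y ⟶ X} {g : V ⟶ X} {κ : V' ⟶ V} {g' : V' ⟶ Y} (n : ℕ)

theorem ι_mm {A B : Scheme.{u}} (f : A ⟶ B) (W : B.Etale) (z : EtCoh.sect (EtCoh.mu B n) W) :
    (EtCoh.muι A n).hom.app (op ((EtCoh.bc f).obj W)) ((mm f n).hom.app (op W) z) =
      (gm f).hom.app (op W) ((EtCoh.muι B n).hom.app (op W) z) :=
  congrArg (fun φ => φ.hom.app (op W) z) (mm_ι f n)

theorem unit_ι_mm {A B : Scheme.{u}} (f : A ⟶ B) (W : B.Etale) (z : EtCoh.sect (EtCoh.mu B n) W) :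
    ((MuConst.unitOf ((EtCoh.muι A n).hom.app (op ((EtCoh.bc f).obj W)) ((mm f n).hom.app (op W) z)) :
      (Γ(((EtCoh.bc f).obj W).left, ⊤))ˣ) : Γ(((EtCoh.bc f).obj W).left, ⊤)) =
      (Dix.GmPush.proj f W).appTop.hom (MuConst.unitOf ((EtCoh.muι B n).hom.app (op W) z) : Γ(W.left, ⊤)) := by
  rw [ι_mm]
  rfl

theorem ι_map {A : Scheme.{u}} {W W' : A.Etale} (m : W' ⟶ W) (z : EtCoh.sect (EtCoh.mu A n) W) :
    (EtCoh.muι A n).hom.app (op W') ((EtCoh.mu A n).obj.map m.op z) =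
      (EtCoh.Gm A).obj.map m.op ((EtCoh.muι A n).hom.app (op W) z) :=
  ConcreteCategory.congr_hom ((EtCoh.muι A n).hom.naturality m.op) z

/-- The two ways of restricting roots of unity to `V'`. -/
theorem mm_cmp (w : κ ≫ g = g' ≫ i) (W : X.Etale) (z : EtCoh.sect (EtCoh.mu X n) W) :
    (EtCoh.mu V' n).obj.map (cmpMap w W ((EtCoh.bc i).obj W) (Dix.GmPush.proj i W)
        (Dix.GmPush.isPullback i W).w).op
      ((mm κ n).hom.app (op ((EtCoh.bc g).obj W)) ((mm g n).hom.app (op W) z)) =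
    (mm g' n).hom.app (op ((EtCoh.bc i).obj W)) ((mm i n).hom.app (op W) z) := by
  apply MuConst.muι_app_injective
  apply MuConst.unitOf_injective
  apply Units.ext
  rw [ι_map, MuConst.unitOf_map]
  have h1 := unit_ι_mm n κ ((EtCoh.bc g).obj W) ((mm g n).hom.app (op W) z)
  have h2 := unit_ι_mm n g W z
  have h3 := unit_ι_mm n g' ((EtCoh.bc i).obj W) ((mm i n).hom.app (op W) z)
  have h4 := unit_ι_mm n i W z
  refine (congrArg _ (h1.trans (congrArg _ h2))).trans (Eq.trans ?_ (h3.trans (congrArg _ h4)).symm)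
  have h5 := cmpMap_fst w W ((EtCoh.bc i).obj W) (Dix.GmPush.proj i W) (Dix.GmPush.isPullback i W).w
  have h6 := congrArg Scheme.Hom.appTop h5
  rw [Scheme.Hom.comp_appTop, Scheme.Hom.comp_appTop, Scheme.Hom.comp_appTop] at h6
  exact congrArg (fun l => l.hom (MuConst.unitOf ((EtCoh.muι X n).hom.app (op W) z) : Γ(W.left, ⊤))) h6

theorem isIso_mm {A B : Scheme.{u}} (f : A ⟶ B) (hn : IsUnit (n : Γ(B, ⊤)))
    (h : IsIso ((EtCoh.pullPushAdj f).unit.app (EtCoh.mu B n))) : IsIso (mm f n) := by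
  have h1 := Sga5.H848.PullMu.isIso_pullMu f n hn
  unfold mm
  rw [Adjunction.homEquiv_unit]
  infer_instance

variable [IsClosedImmersion i] [IsClosedImmersion κ]

/-- `μ_X → i_* μ_Y` is bijective at the points of `Y`. -/
theorem bijective_stalk_mm (hn : IsUnit (n : Γ(X, ⊤))) {Ω : Type u} [Field Ω] [IsSepClosed Ω]
    (ζ : Spec (CommRingCat.of Ω) ⟶ Y) :
    Function.Bijective ((EtCoh.stalk (ζ ≫ i)).map (mm i n)) := by
  have h1 := Sga5.H848.PullMu.isIso_pullMu i n hn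
  have h2 := Groth.Agent.Etcore.OpenClosed.isIso_stalk_unit i (ζ ≫ i)
      (by rw [Scheme.Hom.comp_apply]; exact ⟨_, rfl⟩) (EtCoh.mu X n)
  have h3 : IsIso ((EtCoh.stalk (ζ ≫ i)).map (mm i n)) := by
    unfold mm
    rw [Adjunction.homEquiv_unit, Functor.map_comp]
    infer_instance
  exact ConcreteCategory.bijective_of_isIso _

/-- Bijectivity on the stalk of `R^0`. -/
theorem bijective_stalk_zero (hn0 : n ≠ 0) (w : κ ≫ g = g' ≫ i) (hn : IsUnit (n : Γ(X, ⊤)))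
    (h1 : IsIso ((EtCoh.pullPushAdj g).unit.app (EtCoh.mu X n)))
    (h2 : IsIso ((EtCoh.pullPushAdj g').unit.app (EtCoh.mu Y n)))
    {Ω : Type u} [Field Ω] [IsSepClosed Ω] (ζ : Spec (CommRingCat.of Ω) ⟶ Y) :
    Function.Bijective ((EtCoh.stalk (ζ ≫ i)).map ((EtCoh.push g).map (mm κ n))) := by
  have hnY : IsUnit (n : Γ(Y, ⊤)) := by
    have h1 := hn.map i.appTop.hom
    rwa [map_natCast] at h1
  have hg := isIso_mm n g hn h1
  have hg' := isIso_mm n g' hnY h2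
  have hc1 : Nat.card ((EtCoh.stalk (ζ ≫ i)).obj ((EtCoh.push g).obj (EtCoh.mu V n))) = n := by
    rw [← Nat.card_congr (asIso ((EtCoh.stalk (ζ ≫ i)).map (mm g n))).addCommGroupIsoToAddEquiv.toEquiv]
    exact Sga4h.H926.MuFLC.card_stalk_mu X n hn (ζ ≫ i)
  have hc2 : Nat.card ((EtCoh.stalk (ζ ≫ i)).obj ((EtCoh.push g).obj ((EtCoh.push κ).obj (EtCoh.mu V' n)))) = n := by
    obtain ⟨ε⟩ := nonempty_stalk_target (g := g) (κ := κ) w (EtCoh.mu V' n) 0 ζ
    let e0 := (EtCoh.stalk (ζ ≫ i)).mapIso ((Sga4h.PushDer.rpushZeroIso g).app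
      ((EtCoh.push κ).obj (EtCoh.mu V' n)))
    let e1 := (EtCoh.stalk ζ).mapIso ((Sga4h.PushDer.rpushZeroIso g').app (EtCoh.mu V' n))
    rw [Nat.card_congr (e0.symm ≪≫ ε ≪≫ e1).addCommGroupIsoToAddEquiv.toEquiv,
      ← Nat.card_congr (asIso ((EtCoh.stalk ζ).map (mm g' n))).addCommGroupIsoToAddEquiv.toEquiv]
    exact Sga4h.H926.MuFLC.card_stalk_mu Y n hnY ζ
  have hf1 : Finite ((EtCoh.stalk (ζ ≫ i)).obj ((EtCoh.push g).obj (EtCoh.mu V n))) :=
    Nat.finite_of_card_ne_zero (by rw [hc1]; exact hn0)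
  have hf2 : Finite ((EtCoh.stalk (ζ ≫ i)).obj ((EtCoh.push g).obj ((EtCoh.push κ).obj (EtCoh.mu V' n)))) :=
    Nat.finite_of_card_ne_zero (by rw [hc2]; exact hn0)
  refine (Nat.bijective_iff_injective_and_card _).2 ⟨?_, by rw [hc1, hc2]⟩
  rw [injective_iff_map_eq_zero]
  intro x hx
  obtain ⟨x, rfl⟩ := (ConcreteCategory.bijective_of_isIso ((EtCoh.stalk (ζ ≫ i)).map (mm g n))).2 x
  obtain ⟨W, a, s, rfl⟩ := germ_surj (ζ ≫ i) x
  rw [stalk_map_germ, stalk_map_germ] at hx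
  have h3 : germ (ζ ≫ i) a (((EtCoh.push g).map (mm κ n)).hom.app (op W) ((mm g n).hom.app (op W) s)) =
      germ (ζ ≫ i) a (0 : EtCoh.sect ((EtCoh.push g).obj ((EtCoh.push κ).obj (EtCoh.mu V' n))) W) :=
    hx.trans (map_zero _).symm
  obtain ⟨W₁, p, b, rfl, hp⟩ := (germ_eq_iff _ _ _ _).1 h3
  rw [map_zero] at hp
  -- the restriction of `s` to `W₁`
  have h4 : (mm κ n).hom.app (op ((EtCoh.bc g).obj W₁)) ((mm g n).hom.app (op W₁)
      ((EtCoh.mu X n).obj.map p.op s)) = 0 := by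
    have h5 := ConcreteCategory.congr_hom ((mm g n).hom.naturality p.op) s
    have h6 := ConcreteCategory.congr_hom (((EtCoh.push g).map (mm κ n)).hom.naturality p.op)
      ((mm g n).hom.app (op W) s)
    exact ((congrArg ((mm κ n).hom.app (op ((EtCoh.bc g).obj W₁))) h5).trans h6).trans hp
  have h7 := (mm_cmp n w W₁ ((EtCoh.mu X n).obj.map p.op s)).symm.trans ((congrArg
    ((EtCoh.mu V' n).obj.map (cmpMap w W₁ ((EtCoh.bc i).obj W₁) (Dix.GmPush.proj i W₁)
        (Dix.GmPush.isPullback i W₁).w).op) h4).trans (map_zero _))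
  have h8 : (mm i n).hom.app (op W₁) ((EtCoh.mu X n).obj.map p.op s) = 0 := by
    have h9 : Function.Injective ((mm g' n).hom.app (op ((EtCoh.bc i).obj W₁))) := by
      have h10 : IsIso ((sheafToPresheaf _ _).map (mm g' n)) := inferInstance
      have h11 : IsIso ((mm g' n).hom.app (op ((EtCoh.bc i).obj W₁))) :=
        inferInstanceAs (IsIso (((sheafToPresheaf _ _).map (mm g' n)).app (op ((EtCoh.bc i).obj W₁))))
      exact (ConcreteCategory.bijective_of_isIso _).1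
    apply h9
    exact h7.trans (map_zero _).symm
  have h12 : germ (ζ ≫ i) b ((EtCoh.mu X n).obj.map p.op s) = 0 := by
    apply (bijective_stalk_mm n hn ζ).1
    rw [stalk_map_germ, h8, map_zero]
    exact map_zero ((Scheme.pointSmallEtale (ζ ≫ i)).toPresheafFiber W₁ b
      ((EtCoh.push i).obj (EtCoh.mu Y n)).obj).hom
  rw [← germ_res, h12, map_zero]

end K721.TransZero
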